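import Cfsg.Agent.FSet.Defs
import Cfsg.Agent.Solv.Conj
import Cfsg.Agent.Solv.Cores
import Cfsg.Agent.Local.ProdCard

set_option autoImplicit false
set_option linter.unusedSectionVars false
set_option linter.unusedVariables false

open scoped commutatorElement

namespace Cfsg.Lib.FSet

open Cfsg Subgroup Cfsg.Lib.Trans

local notation "𝐂" A:max => Subgroup.centralizer (SetLike.coe A)
local notation "𝐍" A:max => Subgroup.normalizer (SetLike.coe A)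

universe u

variable {G : Type u} [Group G] {p q k s : ℕ} {D : Set (Subgroup G)} {A B X Y X' : Subgroup G}
  {t g z : G}

theorem le_sp (hA : A ∈ D) (h : A ≤ X) : A ≤ sp D X := le_sSup ⟨hA, h⟩
theorem sp_le : sp D X ≤ X := sSup_le fun _ h => h.2
theorem sp_le_iff : sp D X ≤ Y ↔ ∀ A ∈ D, A ≤ X → A ≤ Y :=
  ⟨fun h _ hA h1 => (le_sp hA h1).trans h, fun h => sSup_le fun A hA => h A hA.1 hA.2⟩
theorem sp_mono (h : X ≤ Y) : sp D X ≤ sp D Y :=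
  sp_le_iff.2 fun _ hA h1 => le_sp hA (h1.trans h)
theorem sp_sp : sp D (sp D X) = sp D X :=
  le_antisymm sp_le (sp_le_iff.2 fun _ hA h1 => le_sp hA (le_sp hA h1))
theorem sp_sup (hX : sp D X = X) (hY : sp D Y = Y) : sp D (X ⊔ Y) = X ⊔ Y :=
  le_antisymm sp_le (sup_le (hX.ge.trans (sp_mono le_sup_left)) (hY.ge.trans (sp_mono le_sup_right)))
theorem sp_pt (hA : A ∈ D) : sp D A = A := le_antisymm sp_le (le_sp hA le_rfl)
theorem sp_line (hA : A ∈ D) (hB : B ∈ D) : sp D (A ⊔ B) = A ⊔ B := sp_sup (sp_pt hA) (sp_pt hB)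
theorem sp_top : sp D ⊤ = sSup D :=
  le_antisymm (sp_le_iff.2 fun _ hA _ => le_sSup hA) (sSup_le fun _ hA => le_sp hA le_top)
theorem FS.cj_sp (h : FS p q k D) (g : G) (X : Subgroup G) : cj g (sp D X) = sp D (cj g X) := by
  have key : ∀ (g : G) (X : Subgroup G), cj g (sp D X) ≤ sp D (cj g X) := fun g X =>
    cj_le_iff_le_cj_inv.2 (sp_le_iff.2 fun A hA h1 =>
      cj_le_iff_le_cj_inv.1 (le_sp (h.inv A hA g) (cj_mono g h1)))
  refine le_antisymm (key g X) ?_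
  have := key g⁻¹ (cj g X)
  rw [cj_inv_cj] at this
  exact cj_inv_le_iff_le_cj.1 this
theorem FS.norm_sp (h : FS p q k D) (X : Subgroup G) : 𝐍 X ≤ 𝐍 (sp D X) := fun g hg =>
  cj_eq_self_iff.1 (by rw [h.cj_sp, cj_eq_of_mem_normalizer hg])
theorem comm_le : ⁅X, X⁆ ≤ X :=
  commutator_le.2 fun _ ha _ hb => by
    rw [commutatorElement_def]
    exact mul_mem (mul_mem (mul_mem ha hb) (inv_mem ha)) (inv_mem hb)
theorem norm_comm : 𝐍 X ≤ 𝐍 ⁅X, X⁆ := fun g hg =>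
  cj_eq_self_iff.1 (by rw [cj_commutator, cj_eq_of_mem_normalizer hg])
theorem Zs_le : Zs X ≤ ⁅X, X⁆ := inf_le_left
theorem Zs_cent : Zs X ≤ 𝐂 X := inf_le_right
theorem cj_Zs (g : G) (X : Subgroup G) : cj g (Zs X) = Zs (cj g X) := by
  rw [Zs, Zs, cj_inf, cj_commutator, cj_centralizer]
theorem norm_Zs : 𝐍 X ≤ 𝐍 (Zs X) := fun g hg =>
  cj_eq_self_iff.1 (by rw [cj_Zs, cj_eq_of_mem_normalizer hg])
theorem le_Gm (hA : A ∈ D) : A ≤ Gm D g ↔ A ≤ centralizer {g} :=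
  ⟨fun h => h.trans sp_le, le_sp hA⟩
theorem Gm_le : Gm D g ≤ centralizer {g} := sp_le
theorem sp_Gm : sp D (Gm D g) = Gm D g := sp_sp
theorem le_cent_iff : X ≤ centralizer {g} ↔ g ∈ 𝐂 X :=
  ⟨fun h => mem_centralizer_iff.2 fun _ hx => mem_centralizer_singleton_iff.1 (h hx),
    fun h _ hx => mem_centralizer_singleton_iff.2 (mem_centralizer_iff.1 h _ hx)⟩
theorem mem_cent_Gm : g ∈ 𝐂 (Gm D g) := le_cent_iff.1 Gm_le
theorem FS.cj_Gm (h : FS p q k D) (x g : G) : cj x (Gm D g) = Gm D (x * g * x⁻¹) := by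
  rw [Gm, Gm, h.cj_sp, cj_centralizer_set, Set.image_singleton]
theorem FS.norm_Gm (h : FS p q k D) (g : G) : centralizer {g} ≤ 𝐍 (Gm D g) := fun x hx =>
  cj_eq_self_iff.1 (by rw [h.cj_Gm, mem_centralizer_singleton_iff.1 hx, mul_inv_cancel_right])
theorem cent_ne_top (hz : z ∉ center G) : centralizer ({z} : Set G) ≠ ⊤ := fun h =>
  hz (mem_center_iff.2 fun g => mem_centralizer_singleton_iff.1 (h ▸ mem_top g))
theorem Ot_le : Ot t ≤ centralizer {t} := map_subtype_le _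

theorem cent_le_norm : 𝐂 X ≤ 𝐍 X := centralizer_le_normalizer _

theorem cent_symm (h : X ≤ 𝐂 Y) : Y ≤ 𝐂 X := fun y hy =>
  mem_centralizer_iff.2 fun x hx => (mem_centralizer_iff.1 (h hx) y hy).symm

theorem cent_sup (h1 : g ∈ 𝐂 X) (h2 : g ∈ 𝐂 Y) : g ∈ 𝐂 (X ⊔ Y) :=
  le_cent_iff.1 (sup_le (le_cent_iff.2 h1) (le_cent_iff.2 h2))

theorem cent_anti (h : X ≤ Y) : 𝐂 Y ≤ 𝐂 X := centralizer_le h

theorem norm_sup (h1 : g ∈ 𝐍 X) (h2 : g ∈ 𝐍 Y) : g ∈ 𝐍 (X ⊔ Y) :=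
  cj_eq_self_iff.1 (by rw [cj_sup, cj_eq_of_mem_normalizer h1, cj_eq_of_mem_normalizer h2])

theorem norm_inf (h1 : g ∈ 𝐍 X) (h2 : g ∈ 𝐍 Y) : g ∈ 𝐍 (X ⊓ Y) :=
  cj_eq_self_iff.1 (by rw [cj_inf, cj_eq_of_mem_normalizer h1, cj_eq_of_mem_normalizer h2])

theorem norm_cent (h1 : g ∈ 𝐍 X) : g ∈ 𝐍 (𝐂 X) := normalizer_le_normalizer_centralizer X h1

variable [Finite G]

theorem odd_Ot (t : G) : Odd (Nat.card (Ot t)) := by
  rw [Ot, card_map_of_injective (subtype_injective _)]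
  exact Nat.coprime_two_right.1 (Solv.coprime_card_pPrimeCore 2 _)

omit [Finite G] in
theorem le_Ot (h1 : X ≤ centralizer {t}) (h2 : centralizer {t} ≤ 𝐍 X) (h3 : Odd (Nat.card X)) :
    X ≤ Ot t := by
  have hn : (X.subgroupOf (centralizer {t})).Normal :=
    ⟨fun x hx g => (mem_normalizer_conj (T := X) (h2 g.2) hx :)⟩
  have := Solv.le_pPrimeCore (p := 2) hn (by
    rw [Nat.card_congr (subgroupOfEquivOfLe h1).toEquiv]; exact Nat.coprime_two_right.2 h3)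
  intro x hx
  exact ⟨⟨x, h1 hx⟩, this hx, rfl⟩

theorem FS.zp (h : FS p q k D) (hA : A ∈ D) {a : G} (ha : a ∈ A) (h1 : a ≠ 1) :
    zpowers a = A := by
  have h2 := card_dvd_of_le (zpowers_le.2 ha)
  rw [h.card A hA] at h2
  rcases (Nat.dvd_prime h.pp).1 h2 with h3 | h3
  · rw [Nat.card_zpowers, orderOf_eq_one_iff] at h3
    exact absurd h3 h1
  · exact eq_of_le_of_card_ge (zpowers_le.2 ha) (by rw [h3, h.card A hA])

theorem FS.inf (h : FS p q k D) (hA : A ∈ D) (hB : B ∈ D) (hne : A ≠ B) : A ⊓ B = ⊥ := by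
  refine eq_bot_iff.2 fun a ha => mem_bot.2 ?_
  by_contra h1
  exact hne ((h.zp hA ha.1 h1).symm.trans (h.zp hB ha.2 h1))

theorem FS.ex (h : FS p q k D) (hA : A ∈ D) : ∃ a ∈ A, a ≠ 1 := by
  by_contra hn
  push Not at hn
  have : A = ⊥ := eq_bot_iff.2 fun a ha => mem_bot.2 (hn a ha)
  have h2 := h.card A hA
  rw [this, card_bot] at h2
  exact h.pp.one_lt.ne h2

theorem FS.comm (h : FS p q k D) (hA : A ∈ D) : A ≤ 𝐂 A := by
  obtain ⟨a, ha, h1⟩ := h.ex hA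
  rw [← h.zp hA ha h1]
  rintro _ ⟨m, rfl⟩
  refine mem_centralizer_iff.2 ?_
  rintro _ ⟨n, rfl⟩
  exact zpow_mul_comm a n m

omit [Finite G] in
theorem FS.pA (h : FS p q k D) (hA : A ∈ D) : IsPGroup p A :=
  IsPGroup.of_card (n := 1) (by rw [h.card A hA, pow_one])

theorem FS.inf_q (h : FS p q k D) (hA : A ∈ D) (hY : IsPGroup q Y) : Y ⊓ A = ⊥ := by
  have := Fact.mk h.pp
  have := Fact.mk h.qp
  exact disjoint_iff.1 (IsPGroup.disjoint_of_ne q p h.pq.symm Y A hY (h.pA hA))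

omit [Finite G] in
theorem FS.line_le (h : FS p q k D) (hA : A ∈ D) (hB : B ∈ D) (hne : A ≠ B) :
    A ⊔ B ≤ ⁅A ⊔ B, A ⊔ B⁆ ⊔ A := sup_le le_sup_right (h.sup A hA B hB hne)

omit [Finite G] in
theorem FS.Zs_line (h : FS p q k D) (hA : A ∈ D) (hB : B ∈ D) (hne : A ≠ B) :
    ⁅A ⊔ B, A ⊔ B⁆ ⊓ 𝐂 A = Zs (A ⊔ B) :=
  le_antisymm (fun _ hx => ⟨hx.1, cent_sup hx.2 (h.cen A hA B hB hne hx)⟩)
    fun _ hx => ⟨hx.1, cent_anti le_sup_left hx.2⟩

theorem FS.card_sup (h : FS p q k D) (hA : A ∈ D) (hY : IsPGroup q Y) (hn : A ≤ 𝐍 Y) :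
    Nat.card ↥(Y ⊔ A) = Nat.card Y * p := by
  have := Local.CD.card_sup_mul_card_inf_of_le_normalizer hn
  rw [inf_comm, h.inf_q hA hY, card_bot, mul_one, sup_comm, h.card A hA, mul_comm] at this
  exact this

theorem FS.card_line (h : FS p q k D) (hA : A ∈ D) (hB : B ∈ D) (hne : A ≠ B) :
    Nat.card ↥(A ⊔ B) = Nat.card ↥⁅A ⊔ B, A ⊔ B⁆ * p := by
  rw [← h.card_sup hA (h.pK A hA B hB hne) (le_sup_left.trans (le_normalizer.trans norm_comm))]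
  congr 2
  exact le_antisymm (h.line_le hA hB hne) (sup_le comm_le le_sup_left)

theorem FS.odd_q (h : FS p q k D) (hY : IsPGroup q Y) : Odd (Nat.card Y) := by
  have := Fact.mk h.qp
  obtain ⟨n, hn⟩ := IsPGroup.iff_card.1 hY
  rw [hn]
  exact (h.qp.odd_of_ne_two h.q2).pow

theorem FS.odd_line (h : FS p q k D) (hA : A ∈ D) (hB : B ∈ D) (hne : A ≠ B) :
    Odd (Nat.card ↥(A ⊔ B)) := by
  rw [h.card_line hA hB hne]
  exact (h.odd_q (h.pK A hA B hB hne)).mul (h.pp.odd_of_ne_two h.p2)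

theorem FS.comm_le_of (h : FS p q k D) (hA : A ∈ D) (hn : A ≤ 𝐍 Y) (hB : B ≤ Y ⊔ A) :
    ⁅A ⊔ B, A ⊔ B⁆ ≤ Y := by
  have h1 : A ⊔ B ≤ Y ⊔ A := sup_le le_sup_right hB
  refine commutator_le.2 fun x hx y hy => ?_
  obtain ⟨u, hu, a, ha, rfl⟩ := (Solv.mem_sup_of_le_normalizer hn).1 (h1 hx)
  obtain ⟨v, hv, b, hb, rfl⟩ := (Solv.mem_sup_of_le_normalizer hn).1 (h1 hy)
  have hc : a * b = b * a := mem_centralizer_iff.1 (h.comm hA hb) a ha
  have : ⁅u * a, v * b⁆ = u * (a * v * a⁻¹) * (b * u⁻¹ * b⁻¹) * v⁻¹ := by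
    rw [commutatorElement_def]
    calc u * a * (v * b) * (u * a)⁻¹ * (v * b)⁻¹
        = u * (a * v * a⁻¹) * ((a * b) * a⁻¹ * u⁻¹ * b⁻¹) * v⁻¹ := by group
      _ = _ := by rw [hc]; group
  rw [this]
  exact mul_mem (mul_mem (mul_mem hu (mem_normalizer_conj (hn ha) hv))
    (mem_normalizer_conj (hn hb) (inv_mem hu))) (inv_mem hv)

theorem FS.not_norm (h : FS p q k D) (hA : A ∈ D) (hB : B ∈ D) (hne : A ≠ B) {a : G}
    (ha : a ∈ A) (h1 : a ≠ 1) : a ∉ 𝐍 B := by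
  intro hn
  have h2 : A ≤ 𝐍 B := by rw [← h.zp hA ha h1]; exact zpowers_le.2 hn
  have h3 := h.comm_le_of hA h2 (B := B) le_sup_left
  exact h.nab A hA B hB hne (h3.trans ((h.comm hB).trans (cent_anti h3)))

theorem FS.cent_of_q (h : FS p q k D) (hA : A ∈ D) (hY : IsPGroup q Y) (hn : A ≤ 𝐍 Y)
    (hg : g ∈ Y) (h2 : g ∈ 𝐍 A) : g ∈ 𝐂 A := by
  refine mem_centralizer_iff.2 fun a ha => ?_
  have h3 : g * a * g⁻¹ * a⁻¹ ∈ Y ⊓ A := by
    refine mem_inf.2 ⟨?_, mul_mem (mem_normalizer_conj h2 ha) (inv_mem ha)⟩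
    have := mul_mem hg (mem_normalizer_conj (hn ha) (inv_mem hg))
    rwa [show g * (a * g⁻¹ * a⁻¹) = g * a * g⁻¹ * a⁻¹ by group] at this
  rw [h.inf_q hA hY, mem_bot] at h3
  calc a * g = (g * a * g⁻¹ * a⁻¹)⁻¹ * (g * a) := by group
    _ = g * a := by rw [h3]; group

theorem FS.cent_of_norm (h : FS p q k D) (hA : A ∈ D) (hB : B ∈ D) (h1 : g ∈ 𝐂 A)
    (h2 : g ∈ 𝐍 B) : g ∈ 𝐂 B := by
  by_cases hne : A = B
  · exact hne ▸ h1
  have hn : A ≤ 𝐍 ⁅A ⊔ B, A ⊔ B⁆ := le_sup_left.trans (le_normalizer.trans norm_comm)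
  have hg : g ∈ 𝐍 ⁅A ⊔ B, A ⊔ B⁆ := norm_comm (norm_sup (cent_le_norm h1) h2)
  refine mem_centralizer_iff.2 fun b hb => ?_
  obtain ⟨u, hu, a, ha, e⟩ := (Solv.mem_sup_of_le_normalizer hn).1 (h.sup A hA B hB hne hb)
  have hc : a * g = g * a := mem_centralizer_iff.1 h1 a ha
  have h3 : g * b * g⁻¹ * b⁻¹ ∈ ⁅A ⊔ B, A ⊔ B⁆ ⊓ B := by
    refine mem_inf.2 ⟨?_, mul_mem (mem_normalizer_conj h2 hb) (inv_mem hb)⟩
    have := mul_mem (mem_normalizer_conj hg hu) (inv_mem hu)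
    rwa [show g * u * g⁻¹ * u⁻¹ = g * b * g⁻¹ * b⁻¹ by
      rw [← e]
      calc g * u * g⁻¹ * u⁻¹ = g * u * g⁻¹ * (a * g) * g⁻¹ * (u * a)⁻¹ := by group
        _ = _ := by rw [hc]; group] at this
  rw [h.inf_q hB (h.pK A hA B hB hne), mem_bot] at h3
  calc b * g = (g * b * g⁻¹ * b⁻¹)⁻¹ * (g * b) := by group
    _ = g * b := by rw [h3]; group

theorem FS.cj_le_sup {y : G} (hy : y ∈ Y) (A : Subgroup G) : cj y A ≤ Y ⊔ A :=
  cj_le_of_mem_of_le (mem_sup_left hy) le_sup_right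

theorem FS.ab (h : FS p q k D) (hA : A ∈ D) (hY : IsPGroup q Y) (hn : A ≤ 𝐍 Y) (hab : Y ≤ 𝐂 Y) :
    Y ≤ 𝐂 A := by
  intro y hy
  by_cases hne : A = cj y A
  · exact h.cent_of_q hA hY hn hy (cj_eq_self_iff.1 hne.symm)
  have h3 := h.comm_le_of hA hn (FS.cj_le_sup hy A)
  exact absurd (h3.trans (hab.trans (cent_anti h3))) (h.nab A hA _ (h.inv A hA y) hne)

theorem FS.irr (h : FS p q k D) (hA : A ∈ D) (hB : B ∈ D) (hne : A ≠ B)
    (hY : Y ≤ ⁅A ⊔ B, A ⊔ B⁆) (hn : A ≤ 𝐍 Y) (hz : ¬ Y ≤ Zs (A ⊔ B)) : Y = ⁅A ⊔ B, A ⊔ B⁆ := by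
  obtain ⟨y, hy, hy'⟩ := SetLike.not_le_iff_exists.1 hz
  have hq := (h.pK A hA B hB hne).to_le hY
  have h1 : A ≠ cj y A := fun e => hy' (by
    rw [← h.Zs_line hA hB hne]
    exact ⟨hY hy, h.cent_of_q hA hq hn hy (cj_eq_self_iff.1 e.symm)⟩)
  have h2 := h.lin A hA B hB hne A hA _ (h.inv A hA y) h1 le_sup_left
    (cj_le_of_mem_of_le (comm_le (hY hy)) le_sup_left)
  exact le_antisymm hY (h.comm_le_of hA hn
    (le_sup_right.trans (h2.trans (sup_le le_sup_right (FS.cj_le_sup hy A)))))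

theorem FS.syl (h : FS p q k D) (hA : A ∈ D) (hY : IsPGroup q Y) (hn : A ≤ 𝐍 Y) :
    IsSylowIn p A (Y ⊔ A) := by
  have := Fact.mk h.qp
  refine ⟨le_sup_right, h.pA hA, ?_⟩
  have h1 := card_mul_relIndex (T := A) (H := Y ⊔ A) le_sup_right
  rw [h.card_sup hA hY hn, h.card A hA, mul_comm] at h1
  rw [Nat.eq_of_mul_eq_mul_right h.pp.pos h1]
  obtain ⟨n, hn⟩ := IsPGroup.iff_card.1 hY
  rw [hn]
  exact fun hd => h.pq ((Nat.prime_dvd_prime_iff_eq h.pp h.qp).1 (h.pp.dvd_of_dvd_pow hd))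

theorem FS.tr_of (h : FS p q k D) (hA : A ∈ D) (hB : B ∈ D) (hY : IsPGroup q Y) (hn : A ≤ 𝐍 Y)
    (hle : B ≤ Y ⊔ A) : ∃ y ∈ Y, cj y A = B := by
  have := Fact.mk h.pp
  have h1 := h.syl hA hY hn
  obtain ⟨x, hx, e⟩ := (h1.of_card_ge (h.pA hB) hle
    (by rw [h.card A hA, h.card B hB])).exists_cj_eq h1
  obtain ⟨u, hu, a, ha, rfl⟩ := (Solv.mem_sup_of_le_normalizer hn).1 hx
  exact ⟨u, hu, by rw [← e, cj_mul, cj_eq_of_mem ha]⟩

theorem FS.tr (h : FS p q k D) (hA : A ∈ D) (hB : B ∈ D) : ∃ g, cj g A = B := by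
  by_cases hne : A = B
  · exact ⟨1, by rw [cj_one, hne]⟩
  obtain ⟨y, -, e⟩ := h.tr_of hA hB (h.pK A hA B hB hne)
    (le_sup_left.trans (le_normalizer.trans norm_comm)) (h.sup A hA B hB hne)
  exact ⟨y, e⟩

omit [Finite G] in
theorem mem_pCore_of_center (_hq : q.Prime) (hz : z ∈ center G) (hY : IsPGroup q Y) (hzY : z ∈ Y) :
    z ∈ pCore q G := by
  have hle : zpowers z ≤ center G := zpowers_le.2 hz
  have hn : (zpowers z).Normal := ⟨fun x hx g => by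
    rwa [mem_center_iff.1 (hle hx) g, mul_inv_cancel_right]⟩
  exact Solv.le_pCore hn (hY.to_le (zpowers_le.2 hzY)) (mem_zpowers z)

omit [Finite G] in
theorem mem_of_zpow_mem (hq : q.Prime) (hY : IsPGroup q Y) (hz : z ∈ Y) {m : ℤ}
    (hm : ¬ (q : ℤ) ∣ m) (h : z ^ m ∈ X) : z ∈ X := by
  obtain ⟨n, hn⟩ := hY ⟨z, hz⟩
  have h1 : z ^ ((q : ℤ) ^ n) = 1 := by
    have := congrArg Subtype.val hn
    simp only [SubmonoidClass.mk_pow, OneMemClass.coe_one] at this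
    rw [← Nat.cast_pow, zpow_natCast]; exact this
  have hc : IsCoprime m ((q : ℤ) ^ n) :=
    (((Nat.prime_iff_prime_int.1 hq).coprime_iff_not_dvd.2 hm).symm).pow_right
  obtain ⟨a, b, e⟩ := hc
  have : z = (z ^ m) ^ a := by
    calc z = z ^ (a * m + b * (q : ℤ) ^ n) := by rw [e, zpow_one]
      _ = _ := by rw [zpow_add, mul_comm b, zpow_mul z _ b, h1, one_zpow, mul_one, mul_comm a,
            zpow_mul]
  rw [this]
  exact zpow_mem h a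

omit [Finite G] in
theorem Sol.Zs_eq (hS : Sol q D X) (_h : FS p q k D) (hA : A ∈ D) (hX : A ≤ X) :
    ⁅X, X⁆ ⊓ 𝐂 A = Zs X :=
  le_antisymm (fun _ hx => ⟨hx.1, hS.cen A hA hX hx⟩) fun _ hx => ⟨hx.1, cent_anti hX hx.2⟩

omit [Finite G] in
theorem Sol.pZ (hS : Sol q D X) : IsPGroup q (Zs X) := hS.pQ.to_le Zs_le

omit [Finite G] in
theorem MC.ne_top (h : MC p q k D) (ho : Odd (Nat.card X)) : X ≠ ⊤ := by
  rintro rfl
  rw [card_top] at ho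
  exact Nat.not_even_iff_odd.2 ho h.even

omit [Finite G] in
theorem MC.sol' (h : MC p q k D) (h1 : X ≠ ⊤) (h2 : sp D X = X) : Sol q D X :=
  h2 ▸ h.sol X h1

theorem MC.line (h : MC p q k D) (hA : A ∈ D) (hB : B ∈ D) (hne : A ≠ B) : Sol q D (A ⊔ B) :=
  h.sol' (h.ne_top (h.odd_line hA hB hne)) (sp_line hA hB)

omit [Finite G] in
theorem MC.two (h : MC p q k D) (hA : A ∈ D) : ∃ B ∈ D, B ≠ A := by
  by_contra hn
  push Not at hn
  refine h.ne_top (X := A) (by rw [h.card A hA]; exact h.pp.odd_of_ne_two h.p2) ?_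
  exact eq_top_iff.2 (h.gen.ge.trans (sSup_le fun B hB => (hn B hB).le))

omit [Finite G] in
theorem MC.pt (h : MC p q k D) : ∃ A, A ∈ D := by
  by_contra hn
  push Not at hn
  refine h.ne_top (X := ⊥) (by rw [card_bot]; exact odd_one) ?_
  exact eq_top_iff.2 (h.gen.ge.trans (sSup_le fun B hB => absurd hB (hn B)))

omit [Finite G] in
theorem MC.nc (h : MC p q k D) (ht : Iv D t) : t ∉ center G := fun hc => ht.ne (h.nz t hc ht.sq)

omit [Finite G] in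
theorem MC.gm_sol (h : MC p q k D) (ht : Iv D t) : Sol q D (Gm D t) :=
  h.sol _ (cent_ne_top (h.nc ht))

omit [Finite G] in
theorem MC.gm_Ot (h : MC p q k D) (ht : Iv D t) : Gm D t ≤ Ot t :=
  le_Ot Gm_le (h.norm_Gm t) (h.gm_sol ht).odd

theorem MC.core_Ot (h : MC p q k D) (t : G) : pCore q G ⊓ centralizer {t} ≤ Ot t :=
  le_Ot inf_le_right (fun _ hg => norm_inf (by rw [normalizer_eq_top]; trivial) (le_normalizer hg))
    (h.odd_q ((Solv.pCore_isPGroup q G).to_le inf_le_left))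

end Cfsg.Lib.FSet
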