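import Cfsg.Agent.FSet.Line
import Cfsg.Agent.FSet.Basic
import Cfsg.Agent.Solv.CoprimeAbelian
import Cfsg.Agent.Solv.CoprimeSylow
import Cfsg.Agent.S3016

/-!
# From the hypothesis to `FS`, and the case of abelian derived groups
-/

set_option autoImplicit false
set_option linter.unusedSectionVars false

open scoped commutatorElement

namespace Cfsg.Lib.FSet

open Cfsg Subgroup Cfsg.Lib.Trans

local notation "𝐂" A:max => Subgroup.centralizer (SetLike.coe A)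
local notation "𝐍" A:max => Subgroup.normalizer (SetLike.coe A)

universe u

variable {G : Type u} [Group G] {p q k s : ℕ} {D : Set (Subgroup G)} {A B X Y X' : Subgroup G}
  {t g z : G}

variable [Finite G]

section Abel
variable {F : Type*} [Group F] [Finite F]

theorem ab_hom {L : Subgroup G} (e : L ≃* F) :
    ∃ f : F →* G, Function.Injective f ∧ (⊤ : Subgroup F).map f = L := by
  refine ⟨L.subtype.comp e.symm.toMonoidHom, L.subtype_injective.comp e.symm.injective, ?_⟩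
  rw [← map_map, map_top_of_surjective _ e.symm.surjective, ← MonoidHom.range_eq_map,
    range_subtype]

theorem ab_K {L : Subgroup G} {f : F →* G} (h : (⊤ : Subgroup F).map f = L) :
    (_root_.commutator F).map f = ⁅L, L⁆ := by
  rw [commutator_def, map_commutator, h]

theorem ab_cent {f : F →* G} (hf : Function.Injective f) {U V : Subgroup F} :
    U.map f ≤ 𝐂 (V.map f) ↔ U ≤ 𝐂 V := by
  constructor
  · intro h u hu
    refine mem_centralizer_iff.2 fun v hv => hf ?_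
    rw [map_mul, map_mul]
    exact mem_centralizer_iff.1 (h ⟨u, hu, rfl⟩) _ ⟨v, hv, rfl⟩
  · rintro h _ ⟨u, hu, rfl⟩
    refine mem_centralizer_iff.2 ?_
    rintro _ ⟨v, hv, rfl⟩
    rw [← map_mul, ← map_mul, mem_centralizer_iff.1 (h hu) v hv]

theorem ab_Z {L : Subgroup G} {f : F →* G} (hf : Function.Injective f)
    (h : (⊤ : Subgroup F).map f = L) :
    (_root_.commutator F ⊓ 𝐂 (⊤ : Subgroup F)).map f = Zs L := by
  rw [Zs, ← ab_K h, ← h]
  refine le_antisymm (le_inf (map_mono inf_le_left) ((ab_cent hf).2 inf_le_right)) ?_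
  rintro _ ⟨⟨u, hu, rfl⟩, h2⟩
  refine ⟨u, ⟨hu, ?_⟩, rfl⟩
  have : zpowers u ≤ 𝐂 (⊤ : Subgroup F) := by
    rw [← ab_cent hf, MonoidHom.map_zpowers]
    exact zpowers_le.2 h2
  exact this (mem_zpowers u)

theorem H0.odd_line (h : H0 p D F) (hA : A ∈ D) (hB : B ∈ D) (hne : A ≠ B) :
    Odd (Nat.card ↥(A ⊔ B)) := by
  obtain ⟨e⟩ := h.iso A hA B hB hne
  rw [Nat.card_congr e.toEquiv]
  exact h.odd

theorem H0.fs (h : H0 p D F) (hA : A ∈ D) (hB : B ∈ D) (hne : A ≠ B)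
    (hF : ¬ _root_.commutator F ≤ 𝐂 (_root_.commutator F)) : ∃ q k, FS p q k D := by
  have tr : ∀ A ∈ D, ∀ B ∈ D, A ≠ B →
      ∃ f : F →* G, Function.Injective f ∧ (⊤ : Subgroup F).map f = A ⊔ B := by
    intro A hA B hB hne
    obtain ⟨e⟩ := h.iso A hA B hB hne
    exact ab_hom e
  obtain ⟨q, hq, hpq, hK, -, -⟩ := h.pair hA hB hne
  haveI := Fact.mk hq
  have hqF : IsPGroup q (_root_.commutator F) := by
    obtain ⟨f, hf, e⟩ := tr A hA B hB hne
    rw [← ab_K e] at hK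
    exact hK.of_equiv (equivMapOfInjective _ f hf).symm
  refine ⟨q, (_root_.commutator F ⊓ 𝐂 (⊤ : Subgroup F)).relIndex (_root_.commutator F),
    h.pp, hq, h.p2, ?_, hpq, h.card, h.inv, ?_, ?_, ?_, ?_, ?_, ?_⟩
  · rintro rfl
    rcases hqF.card_eq_or_dvd with h1 | h1
    · exact hF ((card_eq_one.1 h1).le.trans bot_le)
    · exact h.odd.not_two_dvd_nat (h1.trans (card_subgroup_dvd_card _))
  · intro A hA B hB hne
    obtain ⟨f, -, e⟩ := tr A hA B hB hne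
    rw [← ab_K e]
    exact hqF.map f
  · intro A hA B hB hne
    obtain ⟨_, -, -, -, h1, -⟩ := h.pair hA hB hne
    exact h1
  · intro A hA B hB hne
    obtain ⟨_, -, -, -, -, h1⟩ := h.pair hA hB hne
    exact h1
  · intro A hA B hB hne
    obtain ⟨f, hf, e⟩ := tr A hA B hB hne
    rw [← ab_Z hf e, ← ab_K e, relIndex_map_map_of_injective _ _ hf]
  · intro A hA B hB hne
    obtain ⟨f, hf, e⟩ := tr A hA B hB hne
    rw [← ab_K e, ab_cent hf]
    exact hF
  · intro A hA B hB hne A' hA' B' hB' hne' h1 h2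
    exact h.lin hA hB hne hA' hB' hne' h1 h2

theorem ab_comm (hp : p.Prime) (hA : Nat.card A = p) : A ≤ 𝐂 A := by
  haveI := Fact.mk hp
  haveI : IsCyclic A := isCyclic_of_prime_card hA
  intro a ha
  refine mem_centralizer_iff.2 fun b hb => ?_
  exact congrArg Subtype.val (mul_comm' (⟨b, hb⟩ : A) ⟨a, ha⟩)

theorem ab_comm_le (hA : A ≤ 𝐂 A) (hn : A ≤ 𝐍 Y) (hB : B ≤ Y ⊔ A) :
    ⁅A ⊔ B, A ⊔ B⁆ ≤ Y := by
  have h1 : A ⊔ B ≤ Y ⊔ A := sup_le le_sup_right hB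
  refine commutator_le.2 fun x hx y hy => ?_
  obtain ⟨u, hu, a, ha, rfl⟩ := (Solv.mem_sup_of_le_normalizer hn).1 (h1 hx)
  obtain ⟨v, hv, b, hb, rfl⟩ := (Solv.mem_sup_of_le_normalizer hn).1 (h1 hy)
  have hc : a * b = b * a := mem_centralizer_iff.1 (hA hb) a ha
  have : ⁅u * a, v * b⁆ = u * (a * v * a⁻¹) * (b * u⁻¹ * b⁻¹) * v⁻¹ := by
    rw [commutatorElement_def]
    calc u * a * (v * b) * (u * a)⁻¹ * (v * b)⁻¹
        = u * (a * v * a⁻¹) * ((a * b) * a⁻¹ * u⁻¹ * b⁻¹) * v⁻¹ := by group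
      _ = _ := by rw [hc]; group
  rw [this]
  exact mul_mem (mul_mem (mul_mem hu (mem_normalizer_conj (hn ha) hv))
    (mem_normalizer_conj (hn hb) (inv_mem hu))) (inv_mem hv)

theorem ab_inf (hc : (Nat.card A).Coprime (Nat.card Y)) : Y ⊓ A = ⊥ :=
  inf_eq_bot_of_coprime hc.symm

theorem ab_card (hc : (Nat.card A).Coprime (Nat.card Y)) (hn : A ≤ 𝐍 Y) :
    Nat.card ↥(Y ⊔ A) = Nat.card Y * Nat.card A := by
  have := Local.CD.card_sup_mul_card_inf_of_le_normalizer hn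
  rw [inf_comm, ab_inf hc, card_bot, mul_one, sup_comm, mul_comm] at this
  exact this

theorem ab_tr (hp : p.Prime) (hA : Nat.card A = p) (hB : Nat.card B = p)
    (hc : (Nat.card A).Coprime (Nat.card Y)) (hn : A ≤ 𝐍 Y) (hle : B ≤ Y ⊔ A) :
    ∃ y ∈ Y, cj y A = B := by
  haveI := Fact.mk hp
  have h1 : IsSylowIn p A (Y ⊔ A) := by
    refine ⟨le_sup_right, IsPGroup.of_card (n := 1) (by rw [hA, pow_one]), ?_⟩
    have h1 := card_mul_relIndex (T := A) (H := Y ⊔ A) le_sup_right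
    rw [ab_card hc hn, mul_comm] at h1
    rw [Nat.eq_of_mul_eq_mul_right Nat.card_pos h1]
    rw [hA] at hc
    exact (Nat.Prime.coprime_iff_not_dvd hp).1 hc
  obtain ⟨x, hx, e⟩ := (h1.of_card_ge (IsPGroup.of_card (n := 1) (by rw [hB, pow_one])) hle
    (by rw [hA, hB])).exists_cj_eq h1
  obtain ⟨u, hu, a, ha, rfl⟩ := (Solv.mem_sup_of_le_normalizer hn).1 hx
  exact ⟨u, hu, by rw [← e, cj_mul, cj_eq_of_mem ha]⟩

theorem ab_cent_of (hc : Y ⊓ A = ⊥) (hn : A ≤ 𝐍 Y) (hg : g ∈ Y) (h2 : g ∈ 𝐍 A) :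
    g ∈ 𝐂 A := by
  refine mem_centralizer_iff.2 fun a ha => ?_
  have h3 : g * a * g⁻¹ * a⁻¹ ∈ Y ⊓ A := by
    refine mem_inf.2 ⟨?_, mul_mem (mem_normalizer_conj h2 ha) (inv_mem ha)⟩
    have := mul_mem hg (mem_normalizer_conj (hn ha) (inv_mem hg))
    rwa [show g * (a * g⁻¹ * a⁻¹) = g * a * g⁻¹ * a⁻¹ by group] at this
  rw [hc, mem_bot] at h3
  calc a * g = (g * a * g⁻¹ * a⁻¹)⁻¹ * (g * a) := by group
    _ = g * a := by rw [h3]; group

theorem H0.cop (h : H0 p D F) (hA : A ∈ D) (hB : B ∈ D) (hne : A ≠ B) :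
    (Nat.card A).Coprime (Nat.card ↥⁅A ⊔ B, A ⊔ B⁆) := by
  obtain ⟨q, hq, hpq, hK, -, -⟩ := h.pair hA hB hne
  haveI := Fact.mk hq
  obtain ⟨n, hn⟩ := IsPGroup.iff_card.1 hK
  rw [hn, h.card A hA]
  exact ((Nat.coprime_primes h.pp hq).2 hpq).pow_right n

theorem H0.tr (h : H0 p D F) (hA : A ∈ D) (hB : B ∈ D) (hne : A ≠ B) :
    ∃ y ∈ ⁅A ⊔ B, A ⊔ B⁆, cj y A = B := by
  obtain ⟨_, -, -, -, h1, -⟩ := h.pair hA hB hne
  exact ab_tr h.pp (h.card A hA) (h.card B hB) (h.cop hA hB hne)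
    (le_sup_left.trans (le_normalizer.trans norm_comm)) h1

theorem H0.line_norm (h : H0 p D F) (hA : A ∈ D) (hB : B ∈ D) (hne : A ≠ B)
    (hF : _root_.commutator F ≤ 𝐂 (_root_.commutator F)) : (A ⊔ B) ⊓ 𝐍 A = A := by
  obtain ⟨e⟩ := h.iso A hA B hB hne
  obtain ⟨f, hf, e⟩ := ab_hom e
  have hab : ⁅A ⊔ B, A ⊔ B⁆ ≤ 𝐂 ⁅A ⊔ B, A ⊔ B⁆ := by
    rw [← ab_K e, ab_cent hf]; exact hF
  have hn : A ≤ 𝐍 ⁅A ⊔ B, A ⊔ B⁆ := le_sup_left.trans (le_normalizer.trans norm_comm)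
  have hc := h.cop hA hB hne
  obtain ⟨y, hy, ey⟩ := h.tr hA hB hne
  obtain ⟨_, -, -, -, hs, -⟩ := h.pair hA hB hne
  generalize hK : ⁅A ⊔ B, A ⊔ B⁆ = K at hab hn hc hy hs
  have h1 : K ≤ ⁅K, A⁆ := by
    refine hK.ge.trans (ab_comm_le (ab_comm h.pp (h.card A hA))
      (normalizer_commutator_ge_right K A) ?_)
    rw [← ey]
    refine cj_le_iff.2 fun a ha => ?_
    rw [show y * a * y⁻¹ = ⁅y, a⁆ * a by rw [commutatorElement_def]; group]
    exact mul_mem_sup (commutator_mem_commutator hy ha) ha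
  haveI : IsMulCommutative K :=
    ⟨⟨fun x y => Subtype.ext (mem_centralizer_iff.1 (hab y.2) x x.2)⟩⟩
  have h2 := Solv.Coprime.centralizer_inf_commutator_eq_bot hn hc
  refine le_antisymm ?_ (le_inf le_sup_left le_normalizer)
  rintro x ⟨hx, hx'⟩
  obtain ⟨u, hu, a, ha, rfl⟩ := (Solv.mem_sup_of_le_normalizer hn).1
    (sup_le le_sup_right hs hx)
  have hu' : u ∈ 𝐍 A := by
    have := (𝐍 A).mul_mem hx' ((𝐍 A).inv_mem (le_normalizer ha))
    rwa [mul_inv_cancel_right] at this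
  have : u ∈ (⊥ : Subgroup G) := h2 ▸ ⟨⟨hu, ab_cent_of (ab_inf hc) hn hu hu'⟩, h1 hu⟩
  rw [mem_bot.1 this, one_mul]
  exact ha

theorem H0.abel (h : H0 p D F) (hg : sSup D = ⊤) (hA : A ∈ D) (hB : B ∈ D) (hne : A ≠ B)
    (hF : _root_.commutator F ≤ 𝐂 (_root_.commutator F)) : Odd (Nat.card G) ∧ 𝐍 A ≤ A := by
  haveI := Fact.mk h.pp
  haveI : Fact (Nat.Prime 2) := ⟨Nat.prime_two⟩
  have hAA := ab_comm h.pp (h.card A hA)
  have hcomm : IsMulCommutative A :=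
    ⟨⟨fun x y => Subtype.ext (mem_centralizer_iff.1 (hAA y.2) x x.2)⟩⟩
  have hcl : IsExtremelyClosed A := by
    intro g
    rw [cj_def]
    by_cases e : A = cj g A
    · rw [← e, sup_idem]
      exact inf_of_le_left le_normalizer
    · exact h.line_norm hA (h.inv A hA g) e hF
  obtain ⟨h1, h2⟩ := Cfsg.Agent.S3016.result h.p2 A
    (IsPGroup.of_card (n := 1) (by rw [h.card A hA, pow_one])) hcomm hcl
  have h3 : normalClosure (A : Set G) = ⊤ := by
    rw [eq_top_iff, ← hg]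
    refine sSup_le fun C hC => ?_
    by_cases e : A = C
    · rw [← e]; exact le_normalClosure
    · obtain ⟨y, -, rfl⟩ := h.tr hA hC e
      exact (cj_mono y le_normalClosure).trans (cj_eq_of_normal y _).le
  rw [h3, top_inf_eq] at h1
  refine ⟨?_, h1.le⟩
  rw [h1, sup_comm] at h2
  have hn : A ≤ 𝐍 (pPrimeCore p G) := by rw [normalizer_eq_top]; exact le_top
  have hc : (Nat.card A).Coprime (Nat.card (pPrimeCore p G)) := by
    rw [h.card A hA]
    exact (Solv.coprime_card_pPrimeCore p G).symm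
  obtain ⟨R, hR1, hR2, hR3, hR4⟩ := Solv.Coprime.exists_invariant_sylow' hn hc
    (Or.inl (Solv.Coprime.isSolvable_of_isMulCommutative A)) 2
  have hR : R = ⊥ := by
    refine eq_bot_iff.2 fun y hy => ?_
    have hyA : y ∈ A := by
      by_cases e : A = cj y A
      · exact h1.le (cj_eq_self_iff.1 e.symm)
      exfalso
      have hC := h.inv A hA y
      have h4 := ab_comm_le hAA hR4 (FS.cj_le_sup hy A)
      obtain ⟨_, -, -, -, hs, -⟩ := h.pair hA hC e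
      have h5 : ⁅A ⊔ cj y A, A ⊔ cj y A⁆ = ⊥ := by
        rcases (hR2.to_le h4).card_eq_or_dvd with h6 | h6
        · exact card_eq_one.1 h6
        · exact absurd (h6.trans (card_dvd_of_le comm_le))
            (h.odd_line hA hC e).not_two_dvd_nat
      rw [h5, bot_sup_eq] at hs
      exact e (eq_of_le_of_card_ge hs (by rw [card_cj])).symm
    exact ab_inf hc ▸ ⟨hR1 hy, hyA⟩
  rw [hR, relIndex_bot_left] at hR3
  rw [← card_top, ← h2, ab_card hc hn, h.card A hA]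
  exact (Nat.odd_iff.2 (Nat.two_dvd_ne_zero.1 hR3)).mul (h.pp.odd_of_ne_two h.p2)

end Abel

end Cfsg.Lib.FSet
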