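import Cfsg.Agent.FSet.Blk

/-!
# Two blocks on a point
-/

set_option autoImplicit false
set_option linter.unusedSectionVars false

open scoped commutatorElement

namespace Cfsg.Lib.FSet

open Cfsg Subgroup Cfsg.Lib.Trans

local notation "𝐂" A:max => Subgroup.centralizer (SetLike.coe A)
local notation "𝐍" A:max => Subgroup.normalizer (SetLike.coe A)

universe u

variable {G : Type u} [Group G] {p q k s : ℕ} {D : Set (Subgroup G)} {A B X Y X' : Subgroup G}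
  {t g z : G}

variable [Finite G]

theorem Gm_mul {c : G} (hc : c ∈ center G) : Gm D (c * g) = Gm D g := by
  unfold Gm
  congr 1
  ext x
  rw [mem_centralizer_singleton_iff, mem_centralizer_singleton_iff, ← mul_assoc, mem_center_iff.1 hc x,
    mul_assoc, mul_assoc, mul_right_inj]

theorem MC.adj_cen (h : MC p q k D) (b : Blk D X) (b' : Blk D X') (hne : X ≠ X') :
    Zs (sp D (X ⊓ X')) ≤ center G := by_contra fun e =>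
  hne (h.blk_uniq sp_sp e b b' (sp_le.trans inf_le_left) (sp_le.trans inf_le_right))

theorem MC.adj_half (h : MC p q k D) (b : Blk D X) (b' : Blk D X') (hne : X ≠ X') (hA : A ∈ D)
    (h1 : A ≤ X) (h2 : A ≤ X') (hg : ¬ Zs X' ⊓ 𝐍 X ≤ center G) : ¬ Zs X ⊓ 𝐍 X' ≤ center G ∧
      ∃ S, sp D S = S ∧ S ≤ X ∧ ¬ Zs S ≤ center G ∧ ∀ B ∈ D, B ≤ S →
        B ≤ 𝐍 (⁅sp D (X ⊓ X'), sp D (X ⊓ X')⁆ ⊔ Zs X ⊓ 𝐍 X' ⊔ Zs X' ⊓ 𝐍 X) := by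
  have hS := h.blk_sol b
  have hP := h.sol (X ⊓ X') fun e => b.ne (eq_top_iff.2 (e.ge.trans inf_le_left))
  have hc := h.adj_cen b b' hne
  have h3 : A ≤ sp D (X ⊓ X') := le_sp hA (le_inf h1 h2)
  have hle : ∀ B ∈ D, B ≤ X → B ≤ X' → B ≤ sp D (X ⊓ X') := fun B hB k k' => le_sp hB (le_inf k k')
  have l1 : sp D (X ⊓ X') ≤ X := sp_le.trans inf_le_left
  have l2 : sp D (X ⊓ X') ≤ X' := sp_le.trans inf_le_right
  generalize sp D (X ⊓ X') = T at *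
  have PQ : ⁅T, T⁆ ≤ ⁅X, X⁆ := commutator_mono l1 l1
  have lQ : ⁅T, T⁆ ⊔ Zs X ≤ ⁅X, X⁆ := sup_le PQ Zs_le
  have nZ : ⁅X, X⁆ ≤ 𝐍 (Zs X) := comm_le.trans (le_normalizer.trans norm_Zs)
  have n1 := hS.norm_of le_sup_right lQ
  have nA : A ≤ 𝐍 (⁅T, T⁆ ⊔ Zs X) := (le_inf (Sol.le_norm h3)
    (h1.trans (le_normalizer.trans norm_Zs))).trans (normalizer_inf_normalizer_le_normalizer_sup _ _)
  have cA : ∀ g ∈ Zs X' ⊓ 𝐍 X, g ∈ 𝐂 A := fun g hg a ha => Zs_cent hg.1 a (h2 ha)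
  have cP : ∀ g ∈ Zs X' ⊓ 𝐍 X, ∀ u ∈ ⁅T, T⁆, u⁻¹ * (g * u * g⁻¹) = 1 := fun g hg u hu => by
    rw [conj_eq_of_mem_centralizer (Zs_cent hg.1) (l2 (comm_le hu)), inv_mul_cancel]
  have dec : ∀ u ∈ ⁅T, T⁆ ⊔ Zs X, ∃ y ∈ ⁅T, T⁆, ∃ z ∈ Zs X, y * z = u := fun u hu =>
    (Solv.mem_sup_of_le_normalizer (Zs_cent.trans ((centralizer_le (comm_le.trans l1)).trans
      (centralizer_le_normalizer _)))).1 hu
  have i1 : ∀ g ∈ Zs X' ⊓ 𝐍 X, ⁅T, T⁆ ⊔ Zs X ≤ stb _ _ nZ {g} := fun g hg => sup_le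
    (fun u hu => ⟨PQ hu, fun _ e => by rw [e, cP g hg u hu]; exact one_mem _⟩)
    fun z hz => ⟨Zs_le hz, fun _ e => e ▸ mul_mem (inv_mem hz) (mem_normalizer_conj (norm_Zs hg.2) hz)⟩
  obtain ⟨g, hg, ng⟩ := SetLike.not_le_iff_exists.1 hg
  have eg := h.eq_Gm b' hg.1 ng
  have i0 : ∀ x ∈ ⁅X, X⁆, x⁻¹ * (g * x * g⁻¹) ∈ Zs X → cj x A ≤ X' := fun x hx e =>
    eg ▸ (le_Gm (h.inv A hA x)).2 ((hS.fix h.toFS hA h1 hg.2 (cA g hg) hx).1 e)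
  have i2 : ∀ x ∈ ⁅X, X⁆, x⁻¹ * (g * x * g⁻¹) ∈ Zs X → x ∈ ⁅T, T⁆ ⊔ Zs X := fun x hx e => by
    obtain ⟨y, hy, e'⟩ := hP.tr A hA _ (h.inv A hA x) h3
      (hle _ (h.inv A hA x) (cj_le_of_mem_of_le (comm_le hx) h1) (i0 x hx e))
    rw [← mul_inv_cancel_left y x]
    exact mul_mem_sup hy (hS.mem_Zs h.toFS hA h1 (mul_mem (inv_mem (PQ hy)) hx) (norm_of_cj_eq e'))
  have nQ : ¬ ⁅X, X⁆ ≤ ⁅T, T⁆ ⊔ Zs X := fun e => by
    have : X ≤ X' := b.gen.ge.trans (sp_le_iff.2 fun B hB k => by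
      obtain ⟨x, hx, rfl⟩ := hS.tr A hA B hB h1 k
      exact i0 x hx ((i1 g hg (e hx)).2 g rfl))
    exact hne (le_antisymm this (b'.gen.ge.trans (b.max _ b'.ne this)))
  have q2 := exists_stb h.qp n1 hS.pQ ((h.blk_sol b').pZ.to_le (inf_le_left (b := 𝐍 X)))
    (inf_le_right.trans norm_comm) nQ
  have l12 : ⁅T, T⁆ ⊔ Zs X ≤ stb _ _ n1 (Zs X' ⊓ 𝐍 X :) := fun x hx =>
    ⟨lQ hx, fun g hg => mem_sup_right ((i1 g hg hx).2 g rfl)⟩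
  have nA2 : A ≤ 𝐍 (stb _ _ n1 (Zs X' ⊓ 𝐍 X :)) := norm_stb (Sol.le_norm h1) nA cA
  have m2 : ∀ x ∈ stb _ _ n1 (Zs X' ⊓ 𝐍 X :), x ∈ ⁅X, X⁆ ∧ ∀ g ∈ Zs X' ⊓ 𝐍 X,
      x⁻¹ * (g * x * g⁻¹) ∈ ⁅T, T⁆ ⊔ Zs X := fun x hx => hx
  generalize stb _ _ n1 (Zs X' ⊓ 𝐍 X :) = R at q2 l12 nA2 m2
  obtain ⟨s1, s2⟩ := hS.split h.toFS hA h1 (le_sup_right.trans l12) (fun x hx => (m2 x hx).1) nA2
  have bil : ∀ u ∈ ⁅T, T⁆, ∀ x ∈ R, g * ⁅u, x⁆ * g⁻¹ = ⁅u, x⁆ * ⁅u, x⁻¹ * (g * x * g⁻¹)⁆ :=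
    fun u hu x hx => hS.bil (PQ hu) (m2 x hx).1 (lQ ((m2 x hx).2 g hg)) (cP g hg u hu ▸ one_mem _)
  have k1 : ∀ u ∈ ⁅T, T⁆, ∀ x ∈ R, ⁅u, x⁆ ∈ Zs X ⊓ 𝐍 X' := fun u hu x hx => by
    refine ⟨hS.cm (PQ hu) (m2 x hx).1, (inv_mem_iff (H := 𝐍 X')).1 (cj_eq_self_iff.1 ?_)⟩
    obtain ⟨y, hy, z, hz, e⟩ := dec _ ((m2 x hx).2 g hg)
    have c : ⁅u, x⁻¹ * (g * x * g⁻¹)⁆ ∈ center G := by
      convert hc (hP.cm hu hy) using 1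
      rw [← e, commutatorElement_def, mul_inv_rev, mul_assoc (u * _), ← mul_assoc u⁻¹,
        inv_mem (Zs_cent hz) _ (inv_mem (l1 (comm_le hu))), commutatorElement_def]
      group
    rw [← eg, h.cj_Gm, ← Gm_mul (g := g) c, inv_inv, ← inv_mul_eq_iff_eq_mul.2 (bil u hu x hx)]
    congr 1
    group
  have TS : T ≤ sp D (R ⊔ A) := hP.gen.ge.trans (sp_mono ((hP.sup A hA h3).trans
    (sup_le_sup_right (le_sup_left.trans l12) A)))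
  obtain ⟨x, hx, nx⟩ := SetLike.not_le_iff_exists.1 (show ¬ ⁅sp D (R ⊔ A), sp D (R ⊔ A)⁆ ≤
    ⁅T, T⁆ ⊔ Zs X from fun e => q2.elim fun x k => k.2 (sup_le e le_sup_right (s2.le k.1)))
  have hx' : x ∈ R := s2.ge (mem_sup_left hx)
  obtain ⟨u, hu, nu⟩ : ∃ u ∈ ⁅T, T⁆, ⁅u, x⁆ ∉ center G := by
    by_contra e
    push Not at e
    refine nx (i2 x (m2 x hx').1 (hS.ab h.toFS hA h1 lQ nA ((m2 x hx').2 g hg)
      (le_cent_iff.1 (sup_le (fun u hu => ?_) fun z hz => ?_))))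
    · have := bil u hu x hx'
      rw [mem_center_iff.1 (e u hu) g, mul_inv_cancel_right, left_eq_mul] at this
      exact mem_centralizer_singleton_iff.2 (commutatorElement_eq_one_iff_mul_comm.1 this)
    · exact mem_centralizer_singleton_iff.2 (Zs_cent hz _ (comm_le (lQ ((m2 x hx').2 g hg)))).symm
  refine ⟨fun e => nu (e (k1 u hu x hx')), _, sp_sp, s1, fun e => nu (e ⟨commutator_mem_commutator
    (TS (comm_le hu)) (comm_le hx), fun a ha => Zs_cent (k1 u hu x hx').1 a (s1 ha)⟩), fun B hB k => ?_⟩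
  clear nu hu nx hx hx' x u
  have cZ : ∀ y ∈ X, cj y (Zs X ⊓ 𝐍 X') ≤ ⁅T, T⁆ ⊔ Zs X ⊓ 𝐍 X' := fun y hy =>
    (cj_eq_of_mem_centralizer fun z hz => (Zs_cent (mem_inf.1 hz).1 y hy).symm).le.trans le_sup_right
  have nR : R ≤ 𝐍 (⁅T, T⁆ ⊔ Zs X ⊓ 𝐍 X') := fun x hx => mem_normalizer_of_cj_le ((cj_sup _ _ _).le.trans
    (sup_le (cj_le_iff.2 fun u hu => by
      convert mul_mem (inv_mem (mem_sup_right (S := ⁅T, T⁆) (k1 u hu x hx))) (mem_sup_left hu) using 1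
      rw [commutatorElement_def]; group) (cZ x (comm_le (m2 x hx).1))))
  have nA' : A ≤ 𝐍 (⁅T, T⁆ ⊔ Zs X ⊓ 𝐍 X') := fun a ha => mem_normalizer_of_cj_le ((cj_sup _ _ _).le.trans
    (sup_le ((cj_eq_of_mem_normalizer (Sol.le_norm h3 ha)).le.trans le_sup_left) (cZ a (h1 ha))))
  obtain ⟨x, hx, rfl⟩ := h.tr_of hA hB (hS.pQ.to_le fun x hx => (m2 x hx).1) nA2 (k.trans sp_le)
  refine cj_le_iff.2 fun a ha => ?_
  have hb := mul_mem (mul_mem (nR hx) (nA' ha)) (inv_mem (nR hx))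
  refine mem_normalizer_of_cj_le ((cj_sup _ _ _).le.trans (sup_le
    ((cj_eq_of_mem_normalizer hb).le.trans le_sup_left) (cj_le_iff.2 fun g hg => ?_)))
  obtain ⟨y, hy, z, hz, e⟩ := dec _ ((m2 x hx).2 g hg)
  have hy := mem_normalizer_conj (nR hx) (mem_sup_left hy)
  have e1 : g * (x * a * x⁻¹) * g⁻¹ = x * y * x⁻¹ * (x * a * x⁻¹) * (x * y * x⁻¹)⁻¹ := by
    rw [← conj_mul, ← conj_mul, conj_eq_of_mem_centralizer (cA g hg) ha, ← conj_inv,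
      ← mul_inv_cancel_left x (g * x * g⁻¹), ← e, ← mul_assoc, mul_assoc _ z, ← Zs_cent hz a (h1 ha)]
    group
  convert mul_mem (inv_mem (mem_sup_left (T := Zs X' ⊓ 𝐍 X)
    (mul_mem hy (mem_normalizer_conj hb (inv_mem hy))))) (mem_sup_right hg) using 1
  rw [← mul_assoc, ← mul_assoc, ← e1]
  group

theorem MC.adj (h : MC p q k D) (b : Blk D X) (b' : Blk D X') (hne : X ≠ X') (hA : A ∈ D)
    (h1 : A ≤ X) (h2 : A ≤ X') : Zs X' ⊓ 𝐍 X ≤ pCore q G := by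
  intro z hz
  by_contra nz
  obtain ⟨k, S, s1, s2, s3, s4⟩ := h.adj_half b b' hne hA h1 h2 fun e =>
    nz (mem_pCore_of_center h.qp (e hz) (h.blk_sol b').pZ hz.1)
  obtain ⟨-, S', t1, t2, t3, t4⟩ := h.adj_half b' b hne.symm hA h2 h1 k
  rw [inf_comm X' X, sup_right_comm] at t4
  have l1 : sp D (X ⊓ X') ≤ X := sp_le.trans inf_le_left
  have := Fact.mk h.qp
  have hE : IsPGroup q (⁅sp D (X ⊓ X'), sp D (X ⊓ X')⁆ ⊔ Zs X ⊓ 𝐍 X' ⊔ Zs X' ⊓ 𝐍 X :) :=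
    ((h.blk_sol b).pQ.to_sup_of_normal_left' ((h.blk_sol b').pZ.to_le inf_le_left)
      (inf_le_right.trans norm_comm)).to_le (sup_le_sup_right
        (sup_le (commutator_mono l1 l1) (inf_le_left.trans Zs_le)) _)
  have hz' : z ∈ ⁅sp D (X ⊓ X'), sp D (X ⊓ X')⁆ ⊔ Zs X ⊓ 𝐍 X' ⊔ Zs X' ⊓ 𝐍 X := mem_sup_right hz
  generalize ⁅sp D (X ⊓ X'), sp D (X ⊓ X')⁆ ⊔ Zs X ⊓ 𝐍 X' ⊔ Zs X' ⊓ 𝐍 X = E at *
  by_cases e : 𝐍 E = ⊤
  · exact nz (le_sSup (s := {H : Subgroup G | H.Normal ∧ IsPGroup q H})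
      ⟨normalizer_eq_top_iff.1 e, hE⟩ hz')
  have nT : sp D (𝐍 E) ≠ ⊤ := fun k => e (eq_top_iff.2 (k.ge.trans sp_le))
  obtain ⟨w, hw, nw⟩ := SetLike.not_le_iff_exists.1 s3
  have l := (h.blk_Gm nT sp_sp (h.Zs_mono (s1.ge.trans (sp_le_iff.2 fun B hB k =>
    le_sp hB (s4 B hB k))) nT s1 sp_sp hw) nw).2.1
  rw [h.eq_Gm b (h.Zs_mono s2 b.ne s1 b.gen hw) nw] at l
  exact t3 ((h.Zs_mono (t1.ge.trans (sp_le_iff.2 fun B hB k => le_sp hB (le_inf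
    ((le_sp hB (t4 B hB k)).trans l) (k.trans t2)))) (fun k => b.ne (eq_top_iff.2 (k.ge.trans l1)))
      t1 sp_sp).trans (h.adj_cen b b' hne))

end Cfsg.Lib.FSet
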