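import Cfsg.Agent.FSet.Basic
import Mathlib.Data.Set.Card.Arithmetic

/-!
# Counting points and lines
-/

set_option autoImplicit false

open scoped commutatorElement

namespace Cfsg.Lib.FSet

open Cfsg Subgroup Cfsg.Lib.Trans

local notation "𝐂" A:max => Subgroup.centralizer (SetLike.coe A)
local notation "𝐍" A:max => Subgroup.normalizer (SetLike.coe A)

universe u

variable {G : Type u} [Group G] {p q k s : ℕ} {D : Set (Subgroup G)} {A B X Y X' : Subgroup G}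
  {t g z : G} [Finite G]

namespace Cnt

omit [Finite G] in
theorem ncard_cj (K A : Subgroup G) : {C | ∃ y ∈ K, cj y A = C}.ncard = (𝐍 A).relIndex K := by
  open scoped Pointwise in
  let _ : MulAction K (Subgroup G) := MulAction.compHom _ ((MulAut.conj (G := G)).comp K.subtype)
  have e : ∀ (y : K) (C : Subgroup G), y • C = cj (y : G) C := fun y C => conj_smul_eq_cj _ _
  have h1 : MulAction.stabilizer K A = (𝐍 A).subgroupOf K := by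
    ext y
    rw [MulAction.mem_stabilizer_iff, e, cj_eq_self_iff, mem_subgroupOf]
  rw [relIndex, ← h1, MulAction.index_stabilizer]
  congr 1
  ext C
  exact ⟨fun ⟨y, hy, h⟩ => ⟨⟨y, hy⟩, (e _ _).trans h⟩, fun ⟨y, h⟩ => ⟨y, y.2, (e _ _).symm.trans h⟩⟩

omit [Finite G] in
theorem ncard_fib {α β : Type*} {t : Set β} (ht : t.Finite) {s : β → Set α}
    (hs : ∀ i ∈ t, (s i).Finite) (h : t.PairwiseDisjoint s) {n : ℕ} (hn : ∀ i ∈ t, (s i).ncard = n) :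
    (⋃ i ∈ t, s i).ncard = t.ncard * n := by
  rw [ht.ncard_biUnion hs h, finsum_mem_congr rfl hn, finsum_mem_eq_finite_toFinset_sum _ ht,
    Finset.sum_const, smul_eq_mul, Set.ncard_eq_toFinset_card _ ht]

omit [Finite G] in
theorem eq_line (h : FS p q k D) (hA : A ∈ D) {L : Subgroup G} (hL : L ∈ Ln D A) (hB : B ∈ D)
    (hne : B ≠ A) (hle : B ≤ L) : L = A ⊔ B := by
  obtain ⟨C, hC, hc, rfl⟩ := hL
  exact le_antisymm (h.lin A hA C hC hc.symm A hA B hB hne.symm le_sup_left hle)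
    (sup_le le_sup_left hle)

theorem eq_pt (h : FS p q k D) (hA : A ∈ D) (hB : B ∈ D) {w : G} (h1 : w ≠ 1) (ha : w ∈ A)
    (hb : w ∈ B) : A = B := by
  by_contra hne
  exact h1 (mem_bot.1 (h.inf hA hB hne ▸ mem_inf.2 ⟨ha, hb⟩))

theorem le_pt (h : FS p q k D) (hA : A ∈ D) (hB : B ∈ D) (hle : A ≤ B) : A = B :=
  eq_of_le_of_card_ge hle (by rw [h.card A hA, h.card B hB])

end Cnt

open Cnt

theorem FS.card_pts (h : FS p q k D) (hA : A ∈ D) (hB : B ∈ D) (hne : A ≠ B) :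
    {C | C ∈ D ∧ C ≤ A ⊔ B}.ncard = k := by
  have hn : A ≤ 𝐍 ⁅A ⊔ B, A ⊔ B⁆ := (le_sup_left.trans le_normalizer).trans norm_comm
  have e : {C | C ∈ D ∧ C ≤ A ⊔ B} = {C | ∃ y ∈ ⁅A ⊔ B, A ⊔ B⁆, cj y A = C} := by
    ext C
    refine ⟨fun hC => h.tr_of hA hC.1 (h.pK A hA B hB hne) hn (hC.2.trans (h.line_le hA hB hne)), ?_⟩
    rintro ⟨y, hy, rfl⟩
    exact ⟨h.inv A hA y, cj_le_of_mem_of_le (comm_le hy) le_sup_left⟩
  rw [e, ncard_cj, ← inf_relIndex_right, ← h.idx A hA B hB hne, ← h.Zs_line hA hB hne]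
  congr 1
  ext y
  exact ⟨fun hy => ⟨hy.2, h.cent_of_q hA (h.pK A hA B hB hne) hn hy.2 hy.1⟩,
    fun hy => ⟨centralizer_le_normalizer _ hy.2, hy.1⟩⟩

theorem FS.k_pow (h : FS p q k D) (hA : A ∈ D) (hB : B ∈ D) (hne : A ≠ B) :
    ∃ m, 0 < m ∧ k = q ^ m := by
  have := Fact.mk h.qp
  obtain ⟨n, hn⟩ := IsPGroup.iff_card.1 (h.pK A hA B hB hne)
  have d : k ∣ q ^ n := by
    rw [← hn, ← h.idx A hA B hB hne]
    exact relIndex_dvd_card _ _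
  obtain ⟨m, -, hm⟩ := (Nat.dvd_prime_pow h.qp).1 d
  refine ⟨m, Nat.pos_of_ne_zero ?_, hm⟩
  rintro rfl
  have e := h.card_pts hA hB hne
  rw [hm, pow_zero, Set.ncard_eq_one] at e
  obtain ⟨C, hC⟩ := e
  have e1 : A ∈ ({C} : Set (Subgroup G)) := hC ▸ ⟨hA, le_sup_left⟩
  have e2 : B ∈ ({C} : Set (Subgroup G)) := hC ▸ ⟨hB, le_sup_right⟩
  exact hne (e1.trans e2.symm)

theorem FS.p_dvd (h : FS p q k D) (hA : A ∈ D) (hB : B ∈ D) (hne : A ≠ B) : p ∣ k - 1 := by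
  have := Fact.mk h.pp
  let _ : MulAction A {C | C ∈ D ∧ C ≤ A ⊔ B} :=
    { smul := fun a C => ⟨cj (a : G) C, h.inv _ C.2.1 _, cj_le_of_mem_of_le (mem_sup_left a.2) C.2.2⟩
      one_smul := fun C => Subtype.ext (cj_one _)
      mul_smul := fun a b C => Subtype.ext (cj_mul _ _ _) }
  have e : ∀ (a : A) (C : {C | C ∈ D ∧ C ≤ A ⊔ B}), (a • C).1 = cj (a : G) C := fun _ _ => rfl
  have hP : IsPGroup p A := IsPGroup.of_card (n := 1) (by rw [h.card A hA, pow_one])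
  have m := hP.card_modEq_card_fixedPoints {C | C ∈ D ∧ C ≤ A ⊔ B}
  have f : MulAction.fixedPoints A {C | C ∈ D ∧ C ≤ A ⊔ B} = {⟨A, hA, le_sup_left⟩} := by
    ext C
    rw [MulAction.mem_fixedPoints, Set.mem_singleton_iff]
    refine ⟨fun hC => Subtype.ext ?_, ?_⟩
    · by_contra hc
      obtain ⟨a, ha, h1⟩ := A.bot_or_exists_ne_one.resolve_left fun e => h.pp.ne_one (by
        rw [← h.card A hA, e, card_bot])
      exact h.not_norm hA C.2.1 (Ne.symm hc) ha h1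
        (cj_eq_self_iff.1 ((e _ _).symm.trans (congrArg Subtype.val (hC ⟨a, ha⟩))))
    · rintro rfl a
      exact Subtype.ext (cj_eq_of_mem a.2)
  rw [f, Nat.card_coe_set_eq, h.card_pts hA hB hne, Nat.card_unique] at m
  obtain ⟨n, -, hn⟩ := h.k_pow hA hB hne
  exact (Nat.modEq_iff_dvd' (hn ▸ Nat.one_le_pow _ _ h.qp.pos)).1 m.symm

theorem FS.card_D (h : FS p q k D) (hA : A ∈ D) :
    D.ncard = 1 + (Ln D A).ncard * (k - 1) := by
  have e : D \ {A} = ⋃ L ∈ Ln D A, ({C | C ∈ D ∧ C ≤ L} \ {A}) := by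
    ext C
    simp only [Set.mem_iUnion]
    exact ⟨fun hC => ⟨A ⊔ C, ⟨C, hC.1, hC.2, rfl⟩, ⟨hC.1, le_sup_right⟩, hC.2⟩,
      fun ⟨_, _, hC⟩ => ⟨hC.1.1, hC.2⟩⟩
  rw [← Set.ncard_sdiff_singleton_add_one hA, add_comm, e, ncard_fib (Set.toFinite _)
    (fun _ _ => Set.toFinite _)]
  · intro L hL L' hL' hn
    refine Set.disjoint_left.2 fun C h1 h2 => hn ?_
    rw [eq_line h hA hL h1.1.1 h1.2 h1.1.2, eq_line h hA hL' h2.1.1 h2.2 h2.1.2]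
  · rintro _ ⟨C, hC, hc, rfl⟩
    rw [Set.ncard_sdiff_singleton_of_mem (by exact ⟨hA, le_sup_left⟩), h.card_pts hA hC hc.symm]

theorem FS.odd_D (h : FS p q k D) (hA : A ∈ D) : Odd D.ncard := by
  rw [h.card_D hA]
  rcases (Ln D A).eq_empty_or_nonempty with e | ⟨_, C, hC, hc, -⟩
  · simp [e]
  · obtain ⟨n, -, hn⟩ := h.k_pow hA hC hc.symm
    have o : Odd k := hn ▸ (h.qp.odd_of_ne_two h.q2).pow
    exact Odd.add_even odd_one ((Nat.Odd.sub_odd o odd_one).mul_left _)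

theorem FS.card_W (h : FS p q k D) {S : Set (Subgroup G)} (hS : S ⊆ D) :
    {w : G | w ≠ 1 ∧ ∃ A ∈ S, w ∈ A}.ncard = S.ncard * (p - 1) := by
  have e : {w : G | w ≠ 1 ∧ ∃ A ∈ S, w ∈ A} = ⋃ A ∈ S, ((A : Set G) \ {1}) := by
    ext w
    simp only [Set.mem_iUnion]
    exact ⟨fun ⟨h1, A, hA, hw⟩ => ⟨A, hA, hw, h1⟩, fun ⟨A, hA, hw, h1⟩ => ⟨h1, A, hA, hw⟩⟩
  rw [e, ncard_fib (Set.toFinite _) (fun _ _ => Set.toFinite _)]
  · intro A hA B hB hn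
    exact Set.disjoint_left.2 fun w h1 h2 => hn (eq_pt h (hS hA) (hS hB) h1.2 h1.1 h2.1)
  · intro A hA
    rw [Set.ncard_sdiff_singleton_of_mem A.one_mem, ← h.card A (hS hA)]
    rfl

theorem FS.sum_W (h : FS p q k D) (hA : A ∈ D) (f : G → ℝ) :
    ∑ᶠ w ∈ Wt D ⊤, f w = ∑ᶠ w ∈ Wt D A, f w +
      ∑ᶠ L ∈ Ln D A, (∑ᶠ w ∈ Wt D L, f w - ∑ᶠ w ∈ Wt D A, f w) := by
  have m : ∀ {X Y : Subgroup G}, X ≤ Y → Wt D X ⊆ Wt D Y := fun hle _ ⟨h1, C, hC, h2, h3⟩ =>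
    ⟨h1, C, hC, h2.trans hle, h3⟩
  have e : Wt D ⊤ \ Wt D A = ⋃ L ∈ Ln D A, (Wt D L \ Wt D A) := by
    ext w
    simp only [Set.mem_iUnion]
    refine ⟨fun ⟨⟨h1, C, hC, _, hw⟩, h2⟩ => ⟨A ⊔ C, ⟨C, hC, ?_, rfl⟩, ⟨h1, C, hC, le_sup_right, hw⟩,
      h2⟩, fun ⟨_, _, hw⟩ => ⟨m le_top hw.1, hw.2⟩⟩
    rintro rfl
    exact h2 ⟨h1, C, hC, le_rfl, hw⟩
  rw [← finsum_mem_add_sdiff (m (le_top : A ≤ ⊤)) (Set.toFinite _), e,
    finsum_mem_biUnion ?_ (Set.toFinite _) fun _ _ => Set.toFinite _]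
  · congr 1
    refine finsum_mem_congr rfl ?_
    rintro _ ⟨C, -, -, rfl⟩
    rw [← finsum_mem_add_sdiff (m (le_sup_left : A ≤ A ⊔ C)) (Set.toFinite _), add_sub_cancel_left]
  · intro L hL L' hL' hn
    refine Set.disjoint_left.2 fun w ⟨⟨h1, C, hC, h2, h3⟩, h4⟩ ⟨⟨_, C', hC', h2', h3'⟩, _⟩ => hn ?_
    obtain rfl := eq_pt h hC hC' h1 h3 h3'
    have hc : C ≠ A := fun e => h4 ⟨h1, C, hC, e.le, h3⟩
    rw [eq_line h hA hL hC hc h2, eq_line h hA hL' hC hc h2']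

end Cfsg.Lib.FSet
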