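import Cfsg.Agent.FSet.Basic
import Cfsg.Agent.FSet.Cnt
import Cfsg.Agent.Cor.OddSol
import Cfsg.Agent.Solv.Conj

/-!
# The point of a line fixed by an involution; existence of an involution centralising a point
-/

set_option autoImplicit false
set_option linter.unusedSectionVars false

open scoped commutatorElement

namespace Cfsg.Lib.FSet

open Cfsg Subgroup Cfsg.Lib.Trans

local notation "𝐂" A:max => Subgroup.centralizer (SetLike.coe A)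
local notation "𝐍" A:max => Subgroup.normalizer (SetLike.coe A)

universe u

variable {G : Type u} [Group G] {p q k s : ℕ} {D : Set (Subgroup G)} {A B X Y X' : Subgroup G}
  {t g z : G}

variable [Finite G]

namespace Mid

/-- A `2`-group acting on an odd number of subgroups normalises one of them. -/
theorem exists_fix {T : Subgroup G} (hT : IsPGroup 2 T) (S : Set (Subgroup G))
    (hS : ∀ g ∈ T, ∀ A ∈ S, cj g A ∈ S) (ho : Odd S.ncard) : ∃ A ∈ S, T ≤ 𝐍 A := by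
  haveI : Fact (Nat.Prime 2) := ⟨Nat.prime_two⟩
  letI : MulAction T S :=
    { smul := fun g A => ⟨cj (g : G) A.1, hS _ g.2 _ A.2⟩
      one_smul := fun A => Subtype.ext (cj_one A.1)
      mul_smul := fun g k A => Subtype.ext (cj_mul (g : G) (k : G) A.1) }
  have hn : ¬ 2 ∣ Nat.card S := by
    rw [Nat.card_coe_set_eq, ← even_iff_two_dvd, Nat.not_even_iff_odd]
    exact ho
  obtain ⟨A, hA⟩ := hT.nonempty_fixed_point_of_prime_not_dvd_card S hn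
  refine ⟨A.1, A.2, fun g hg => cj_eq_self_iff.1 ?_⟩
  exact congrArg Subtype.val (hA ⟨g, hg⟩)

theorem two_zp (h1 : t * t = 1) : IsPGroup 2 (zpowers t) := by
  intro g
  obtain ⟨g, n, rfl⟩ := g
  refine ⟨1, Subtype.ext ?_⟩
  have : (t ^ n) ^ 2 = 1 := by
    rw [← zpow_natCast, ← zpow_mul, mul_comm, zpow_mul, zpow_natCast, pow_two, h1, one_zpow]
  simpa using this

theorem odd_k (h : FS p q k D) (hA : A ∈ D) (hB : B ∈ D) (hne : A ≠ B) : Odd k := by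
  obtain ⟨m, -, rfl⟩ := h.k_pow hA hB hne
  exact (h.qp.odd_of_ne_two h.q2).pow

theorem odd_ord (hY : Odd (Nat.card Y)) {y : G} (hy : y ∈ Y) : Odd (orderOf y) :=
  hY.of_dvd_nat (Subgroup.orderOf_dvd_natCard Y hy)

theorem odd_pt (h : FS p q k D) (hA : A ∈ D) : Odd (Nat.card A) := by
  rw [h.card A hA]
  exact h.pp.odd_of_ne_two h.p2

theorem sq_ne {x : G} (ho : Odd (orderOf x)) (h1 : x ≠ 1) : x * x ≠ 1 := by
  intro h2
  have h3 : orderOf x ∣ 2 := orderOf_dvd_of_pow_eq_one (by rw [pow_two, h2])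
  rcases (Nat.dvd_prime Nat.prime_two).1 h3 with h4 | h4
  · exact h1 (orderOf_eq_one_iff.1 h4)
  · rw [h4] at ho
    exact absurd ho (by decide)

theorem exists_pt (h : MC p q k D) (ht : Iv D t) (hX : X ∈ D) (hn : ¬ X ≤ centralizer {t}) :
    ∃ A ∈ D, t ∈ 𝐂 A ∧ A ≠ X ∧ t ∈ 𝐍 (A ⊔ X) ∧ cj t X ≠ X := by
  obtain ⟨A0, hA0, hA0t⟩ := ht.pt
  have t0 : t ∈ 𝐂 A0 := le_cent_iff.1 hA0t
  have hX' : cj t X ∈ D := h.inv X hX t
  have hne : cj t X ≠ X := fun e =>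
    hn (le_cent_iff.2 (h.toFS.cent_of_norm hA0 hX t0 (cj_eq_self_iff.1 e)))
  have tM : t ∈ 𝐍 (X ⊔ cj t X) := by
    rw [← cj_eq_self_iff, cj_sup, cj_cj, ht.sq, cj_one, sup_comm]
  obtain ⟨A, ⟨hA, hAM⟩, hAt⟩ := exists_fix (two_zp ht.sq) {C | C ∈ D ∧ C ≤ X ⊔ cj t X}
    (fun g hg C hC => ⟨h.inv C hC.1 g, by
      have hg' : g ∈ 𝐍 (X ⊔ cj t X) := (zpowers_le.2 tM) hg
      rw [← cj_eq_of_mem_normalizer hg']
      exact cj_mono g hC.2⟩)
    (by rw [h.toFS.card_pts hX hX' hne.symm]; exact odd_k h.toFS hX hX' hne.symm)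
  have tA : t ∈ 𝐂 A := h.toFS.cent_of_norm hA0 hA t0 (hAt (mem_zpowers t))
  have hAX : A ≠ X := fun e => hn (le_cent_iff.2 (e ▸ tA))
  have e : A ⊔ X = X ⊔ cj t X :=
    le_antisymm (sup_le hAM le_sup_left)
      (h.lin X hX _ hX' hne.symm A hA X hX hAX hAM le_sup_left)
  exact ⟨A, hA, tA, hAX, e ▸ tM, hne⟩

/-- the elements of `K` centralised by `t` modulo `Z`. -/
def fx (K Z : Subgroup G) (hK : K ≤ 𝐍 Z) (t : G) : Subgroup G where
  carrier := {y | y ∈ K ∧ t * y * t⁻¹ * y⁻¹ ∈ Z}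
  one_mem' := ⟨K.one_mem, by simp⟩
  mul_mem' {a b} ha hb := ⟨K.mul_mem ha.1 hb.1, by
    have e : t * (a * b) * t⁻¹ * (a * b)⁻¹ =
        (t * a * t⁻¹ * a⁻¹) * (a * (t * b * t⁻¹ * b⁻¹) * a⁻¹) := by group
    rw [e]
    exact Z.mul_mem ha.2 (mem_normalizer_conj (hK ha.1) hb.2)⟩
  inv_mem' {a} ha := ⟨K.inv_mem ha.1, by
    have e : t * a⁻¹ * t⁻¹ * a⁻¹⁻¹ = a⁻¹ * (t * a * t⁻¹ * a⁻¹)⁻¹ * a := by group
    rw [e]
    exact mem_normalizer_conj' (hK ha.1) (Z.inv_mem ha.2)⟩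

theorem fx_eq_1' : type_of% @fx.eq_1 := @fx.eq_1

theorem mem_fx {K Z : Subgroup G} {hK : K ≤ 𝐍 Z} {y : G} :
    y ∈ fx K Z hK t ↔ y ∈ K ∧ t * y * t⁻¹ * y⁻¹ ∈ Z := Iff.rfl

theorem fix_mem (h : MC p q k D) (hA : A ∈ D) (hX : X ∈ D) (tA : t ∈ 𝐂 A) (hAX : A ≠ X)
    (hne : cj t X ≠ X) {y : G} (hy : y ∈ ⁅A ⊔ X, A ⊔ X⁆)
    (hz : t * y * t⁻¹ * y⁻¹ ∈ Zs (A ⊔ X)) : y ∈ Zs (A ⊔ X) := by
  have hS := h.line hA hX hAX
  have LZ : A ⊔ X ≤ 𝐍 (Zs (A ⊔ X)) := le_normalizer.trans norm_Zs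
  have LK : A ⊔ X ≤ 𝐍 ⁅A ⊔ X, A ⊔ X⁆ := le_normalizer.trans norm_comm
  have hK : ⁅A ⊔ X, A ⊔ X⁆ ≤ 𝐍 (Zs (A ⊔ X)) := comm_le.trans LZ
  have hle : fx _ _ hK t ≤ Zs (A ⊔ X) := by
    by_contra hc
    have hN : A ≤ 𝐍 (fx _ _ hK t) := fun a ha => by
      refine mem_normalizer_of_cj_le (cj_le_iff.2 fun u hu => ?_)
      have haL : a ∈ A ⊔ X := mem_sup_left ha
      refine ⟨mem_normalizer_conj (LK haL) hu.1, ?_⟩
      have e : t * (a * u * a⁻¹) * t⁻¹ * (a * u * a⁻¹)⁻¹ =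
          (t * a * t⁻¹) * (t * u * t⁻¹) * (t * a * t⁻¹)⁻¹ * (a * u * a⁻¹)⁻¹ := by group
      have e' : a * (t * u * t⁻¹) * a⁻¹ * (a * u * a⁻¹)⁻¹ = a * (t * u * t⁻¹ * u⁻¹) * a⁻¹ := by
        group
      rw [e, conj_eq_of_mem_centralizer tA ha, e']
      exact mem_normalizer_conj (LZ haL) hu.2
    have hE := h.toFS.irr (Y := fx _ _ hK t) hA hX hAX (fun u hu => hu.1) hN hc
    obtain ⟨x, hx, hxA⟩ := hS.tr A hA X hX le_sup_left le_sup_right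
    have hx' : x ∈ fx _ _ hK t := by rw [hE]; exact hx
    have hzX : t * x * t⁻¹ * x⁻¹ ∈ 𝐂 X :=
      centralizer_le (SetLike.coe_subset_coe.2 le_sup_right) (Zs_cent hx'.2)
    apply hne
    calc cj t X = cj (t * x) A := by rw [cj_mul, hxA]
      _ = cj (t * x * t⁻¹ * x⁻¹) (cj x (cj t A)) := by
          rw [cj_cj, cj_cj]
          congr 1
          group
      _ = X := by rw [cj_eq_of_mem_centralizer tA, hxA, cj_eq_of_mem_centralizer hzX]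
  exact hle ⟨hy, hz⟩

theorem comm_cen {L : Subgroup G} {a b u v : G} (ha : a ∈ L) (hb : b ∈ L) (hu : u ∈ 𝐂 L)
    (hv : v ∈ 𝐂 L) (hvL : v ∈ L) : ⁅u * a, v * b⁆ = ⁅a, b⁆ := by
  have h1 : u * (a * (v * b) * a⁻¹) * u⁻¹ = a * (v * b) * a⁻¹ :=
    conj_eq_of_mem_centralizer hu (L.mul_mem (L.mul_mem ha (L.mul_mem hvL hb)) (L.inv_mem ha))
  have h2 : v * (b * a⁻¹ * b⁻¹) * v⁻¹ = b * a⁻¹ * b⁻¹ :=
    conj_eq_of_mem_centralizer hv (L.mul_mem (L.mul_mem hb (L.inv_mem ha)) (L.inv_mem hb))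
  calc ⁅u * a, v * b⁆ = u * (a * (v * b) * a⁻¹) * u⁻¹ * (v * b)⁻¹ := by
        rw [commutatorElement_def]; group
    _ = a * (v * (b * a⁻¹ * b⁻¹) * v⁻¹) := by rw [h1]; group
    _ = ⁅a, b⁆ := by rw [h2, commutatorElement_def]; group

theorem lang {K Z : Subgroup G} (hK : K ≤ 𝐍 Z) (gK : g ∈ 𝐍 K) (gZ : g ∈ 𝐍 Z)
    (hf : ∀ y ∈ K, g * y * g⁻¹ * y⁻¹ ∈ Z → y ∈ Z) {x : G} (hx : x ∈ K) :
    ∃ y ∈ K, ∃ z ∈ Z, y * (x * g) * y⁻¹ = z * g := by
  let φ : K → K := fun y => ⟨(y : G)⁻¹ * (g * y * g⁻¹),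
    K.mul_mem (K.inv_mem y.2) (mem_normalizer_conj gK y.2)⟩
  have rel : ∀ a b : K, (QuotientGroup.leftRel (Z.subgroupOf K)) a b ↔ (a : G)⁻¹ * b ∈ Z :=
    fun a b => by rw [QuotientGroup.leftRel_apply, mem_subgroupOf]; rfl
  let ψ : K ⧸ Z.subgroupOf K → K ⧸ Z.subgroupOf K := Quotient.map' φ fun a b hab => by
    rw [rel] at hab ⊢
    have e : ((φ a : K) : G)⁻¹ * (φ b : K) = ((φ a : K) : G)⁻¹ * ((a : G)⁻¹ * b)⁻¹ * (φ a : K) *
        (g * ((a : G)⁻¹ * b) * g⁻¹) := by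
      simp only [φ]
      group
    rw [e]
    exact Z.mul_mem (mem_normalizer_conj' (hK (φ a).2) (Z.inv_mem hab))
      (mem_normalizer_conj gZ hab)
  have hinj : Function.Injective ψ := by
    intro a b
    induction a using Quotient.inductionOn' with | _ a => ?_
    induction b using Quotient.inductionOn' with | _ b => ?_
    intro hab
    have h1 : ((φ a : K) : G)⁻¹ * (φ b : K) ∈ Z := (rel _ _).1 (Quotient.exact' hab)
    have h2 : (b : G) * (a : G)⁻¹ ∈ Z := by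
      refine hf _ (K.mul_mem b.2 (K.inv_mem a.2)) ?_
      have e : g * ((b : G) * (a : G)⁻¹) * g⁻¹ * ((b : G) * (a : G)⁻¹)⁻¹ =
          (g * b * g⁻¹) * (((φ a : K) : G)⁻¹ * (φ b : K)) * (g * b * g⁻¹)⁻¹ := by
        simp only [φ]
        group
      rw [e]
      exact mem_normalizer_conj (hK (mem_normalizer_conj gK b.2)) h1
    refine Quotient.sound' ((rel _ _).2 ?_)
    have e : (a : G)⁻¹ * b = (a : G)⁻¹ * ((b : G) * (a : G)⁻¹) * a := by group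
    rw [e]
    exact mem_normalizer_conj' (hK a.2) h2
  obtain ⟨y, hy⟩ := Finite.surjective_of_injective hinj (Quotient.mk'' ⟨x, hx⟩)
  induction y using Quotient.inductionOn' with | _ y => ?_
  have h1 : ((φ y : K) : G)⁻¹ * x ∈ Z := (rel _ ⟨x, hx⟩).1 (Quotient.exact' hy)
  refine ⟨y, y.2, _, mem_normalizer_conj (hK (mem_normalizer_conj gK y.2)) h1, ?_⟩
  simp only [φ]
  group

end Mid

theorem MC.mid (h : MC p q k D) (ht : Iv D t) (hX : X ∈ D) (hn : ¬ X ≤ centralizer {t}) :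
    ∃ A ∈ D, A ≤ centralizer {t} ∧ A ≠ X ∧ t ∈ 𝐍 (A ⊔ X) ∧ Zs (A ⊔ X) ≤ centralizer {t} ∧
      (∀ y ∈ ⁅A ⊔ X, A ⊔ X⁆, t * y * t⁻¹ * y ∈ Zs (A ⊔ X)) ∧
      ∀ w ∈ X, w ≠ 1 → ∃ x ∈ A, ∃ z ∈ Zs (A ⊔ X), IsConj (w * t) (t * (x * z)) := by
  obtain ⟨A, hA, tA, hAX, tL, hne⟩ := Mid.exists_pt h ht hX hn
  have hS := h.line hA hX hAX
  have tK : t ∈ 𝐍 ⁅A ⊔ X, A ⊔ X⁆ := norm_comm tL
  have LK : A ⊔ X ≤ 𝐍 ⁅A ⊔ X, A ⊔ X⁆ := le_normalizer.trans norm_comm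
  have cZ : ∀ x ∈ ⁅A ⊔ X, A ⊔ X⁆, ∀ y ∈ ⁅A ⊔ X, A ⊔ X⁆, ⁅x, y⁆ ∈ Zs (A ⊔ X) := fun x hx y hy =>
    hS.cl2 ▸ commutator_mem_commutator hx hy
  have inv : ∀ y ∈ ⁅A ⊔ X, A ⊔ X⁆, t * y * t⁻¹ * y ∈ Zs (A ⊔ X) := fun y hy => by
    have hty := mem_normalizer_conj tK hy
    refine Mid.fix_mem h hA hX tA hAX hne (Subgroup.mul_mem _ hty hy) ?_
    have e : t * (t * y * t⁻¹ * y) * t⁻¹ * (t * y * t⁻¹ * y)⁻¹ =
        (t * t) * y * (t * t)⁻¹ * (t * y * t⁻¹) * y⁻¹ * (t * y * t⁻¹)⁻¹ := by group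
    rw [e, ht.sq, inv_one, one_mul, mul_one]
    exact cZ y hy _ hty
  have Zt : Zs (A ⊔ X) ≤ centralizer {t} := by
    rw [← hS.cl2]
    refine commutator_le.2 fun x hx y hy => ?_
    have hxL : x ∈ A ⊔ X := comm_le hx
    have hyL : y ∈ A ⊔ X := comm_le hy
    have h1 := Mid.comm_cen (Subgroup.inv_mem _ hxL) (Subgroup.inv_mem _ hyL) (Zs_cent (inv x hx))
      (Zs_cent (inv y hy)) (comm_le (Zs_le (inv y hy)))
    have h2 : ⁅x, y⁆ * (y * x) * ⁅x, y⁆⁻¹ = y * x :=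
      conj_eq_of_mem_centralizer (Zs_cent (cZ x hx y hy)) (Subgroup.mul_mem _ hyL hxL)
    have h3 : t * ⁅x, y⁆ * t⁻¹ = ⁅x, y⁆ := by
      calc t * ⁅x, y⁆ * t⁻¹ = ⁅t * x * t⁻¹ * x * x⁻¹, t * y * t⁻¹ * y * y⁻¹⁆ := by
            simp only [commutatorElement_def]; group
        _ = (y * x)⁻¹ * (⁅x, y⁆ * (y * x) * ⁅x, y⁆⁻¹) * ⁅x, y⁆ := by
            rw [h1]; simp only [commutatorElement_def]; group
        _ = ⁅x, y⁆ := by rw [h2]; group
    rw [mem_centralizer_singleton_iff]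
    calc ⁅x, y⁆ * t = t * ⁅x, y⁆ * t⁻¹ * t := by rw [h3]
      _ = t * ⁅x, y⁆ := by group
  refine ⟨A, hA, le_cent_iff.2 tA, hAX, tL, Zt, inv, fun w hw h1 => ?_⟩
  obtain ⟨y, hy, x, hx, rfl⟩ := (Solv.mem_sup_of_le_normalizer (le_sup_left.trans LK)).1
    (h.sup A hA X hX hAX hw)
  have x1 : x ≠ 1 := by
    rintro rfl
    have : y * 1 ∈ ⁅A ⊔ X, A ⊔ X⁆ ⊓ X := ⟨by rwa [mul_one], hw⟩
    rw [h.toFS.inf_q hX hS.pQ] at this
    exact h1 (mem_bot.1 this)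
  have tx : t * x * t⁻¹ = x := conj_eq_of_mem_centralizer tA hx
  have hg : x * t ∈ 𝐍 (A ⊔ X) := Subgroup.mul_mem _ (le_normalizer (mem_sup_left hx)) tL
  have gg : x * t * (x * t) = x * x := by
    calc x * t * (x * t) = x * (t * x * t⁻¹) * (t * t) := by group
      _ = x * x := by rw [tx, ht.sq, mul_one]
  obtain ⟨y0, -, z, hz, e⟩ := Mid.lang (comm_le.trans (le_normalizer.trans norm_Zs))
    (norm_comm hg) (norm_Zs hg) (fun u hu hz => by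
    refine Mid.fix_mem h hA hX (h.toFS.comm hA (A.mul_mem hx hx)) hAX (fun e =>
      h.toFS.not_norm hA hX hAX (A.mul_mem hx hx)
        (Mid.sq_ne (Mid.odd_ord (Mid.odd_pt h.toFS hA) hx) x1) (cj_eq_self_iff.1 e)) hu ?_
    have e : x * t * (x * t) * u * (x * t * (x * t))⁻¹ * u⁻¹ =
        x * t * (x * t * u * (x * t)⁻¹ * u⁻¹) * (x * t)⁻¹ * (x * t * u * (x * t)⁻¹ * u⁻¹) := by
      group
    rw [← gg, e]
    exact Subgroup.mul_mem _ (mem_normalizer_conj (norm_Zs hg) hz) hz) hy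
  refine ⟨x, hx, z, hz, isConj_iff.2 ⟨y0, ?_⟩⟩
  have zt : z * t = t * z := mem_centralizer_singleton_iff.1 (Zt hz)
  have zx : z * x * z⁻¹ = x := conj_eq_of_mem_centralizer (Zs_cent hz) (mem_sup_left hx)
  calc y0 * (y * x * t) * y0⁻¹ = z * (x * t) := by rw [← e]; group
    _ = (z * x * z⁻¹) * (z * t) := by group
    _ = x * (t * z) := by rw [zx, zt]
    _ = t * (t⁻¹ * x * t) * z := by group
    _ = t * (x * z) := by rw [conj_eq_of_mem_centralizer' tA hx, mul_assoc]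

theorem MC.good_of (h : MC p q k D) (ht : Iv D t) (hX : X ∈ D) (hn : X ≤ centralizer {t}) :
    Good t X := by
  intro w hw _
  refine ⟨w, h.gm_Ot ht ((le_Gm hX).2 hn hw), ?_⟩
  rw [mem_centralizer_singleton_iff.1 (hn hw)]

theorem MC.sec (h : MC p q k D) (ht : Iv D t) {w : G} (hw : w ∈ Wt D ⊤) :
    ∃ y, y * t = t * y ∧ Odd (orderOf y) ∧ IsConj (w * t) (t * y) := by
  obtain ⟨h1, X, hX, -, hw⟩ := hw
  by_cases hn : X ≤ centralizer {t}
  · have e := mem_centralizer_singleton_iff.1 (hn hw)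
    exact ⟨w, e, Mid.odd_ord (Mid.odd_pt h.toFS hX) hw, by rw [e]⟩
  · obtain ⟨A, hA, hAt, hAX, -, hZ, -, hc⟩ := h.mid ht hX hn
    obtain ⟨x, hx, z, hz, hj⟩ := hc w hw h1
    exact ⟨x * z, mem_centralizer_singleton_iff.1 (Subgroup.mul_mem _ (hAt hx) (hZ hz)),
      Mid.odd_ord (h.toFS.odd_line hA hX hAX)
        (Subgroup.mul_mem _ (mem_sup_left hx) (comm_le (Zs_le hz))), hj⟩

theorem MC.exi (h : MC p q k D) : ∃ t, Iv D t := by
  haveI : Fact (Nat.Prime 2) := ⟨Nat.prime_two⟩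
  haveI : Fact p.Prime := ⟨h.pp⟩
  obtain ⟨T⟩ : Nonempty (Sylow 2 G) := inferInstance
  obtain ⟨A0, hA0⟩ := h.pt
  obtain ⟨A, hA, hTA⟩ := Mid.exists_fix T.isPGroup' D (fun g _ C hC => h.inv C hC g)
    (h.toFS.odd_D hA0)
  by_cases hb : (T : Subgroup G) ⊓ 𝐂 A = ⊥
  · exfalso
    haveI : IsCyclic A := isCyclic_of_prime_card (h.card A hA)
    haveI : IsCyclic (ZMod (Nat.card A))ˣ := by
      rw [h.card A hA]
      exact ZMod.isCyclic_units_prime h.pp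
    haveI : IsCyclic (MulAut A) :=
      isCyclic_of_injective (IsCyclic.mulAutMulEquiv A).toMonoidHom
        (IsCyclic.mulAutMulEquiv A).injective
    have hT : IsCyclic (T : Subgroup G) := by
      refine isCyclic_of_injective (A.normalizerMonoidHom.comp (Subgroup.inclusion hTA)) ?_
      rw [injective_iff_map_eq_one]
      intro g hg
      have h1 : Subgroup.inclusion hTA g ∈ A.normalizerMonoidHom.ker := hg
      rw [Subgroup.normalizerMonoidHom_ker] at h1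
      have h2 : (g : G) ∈ (T : Subgroup G) ⊓ 𝐂 A := ⟨g.2, h1⟩
      rw [hb] at h2
      exact Subtype.ext (mem_bot.1 h2)
    obtain ⟨P, N, hN, hc⟩ := Cor.hasNormalPComplement_of_isCyclic_sylow_two T hT
    have hNt : N = ⊤ := by
      rw [eq_top_iff, ← h.gen]
      refine sSup_le fun C hC c hc' => ?_
      obtain ⟨n, hn⟩ := P.isPGroup'.exists_card_eq
      have h1 : orderOf (QuotientGroup.mk c : G ⧸ N) ∣ 2 ^ n := by
        rw [← hn, ← hc.symm.index_eq_card]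
        exact orderOf_dvd_natCard _
      have h2 : Odd (orderOf (QuotientGroup.mk c : G ⧸ N)) :=
        (Mid.odd_ord (Mid.odd_pt h.toFS hC) hc').of_dvd_nat
          (orderOf_map_dvd (QuotientGroup.mk' N) c)
      have h3 : orderOf (QuotientGroup.mk c : G ⧸ N) = 1 :=
        Nat.eq_one_of_dvd_coprimes ((Nat.coprime_two_left.2 h2).pow_left n) h1 dvd_rfl
      exact (QuotientGroup.eq_one_iff c).1 (orderOf_eq_one_iff.1 h3)
    have hP : (P : Subgroup G) = ⊥ := by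
      have := hc.disjoint
      rw [hNt] at this
      exact top_disjoint.1 this
    have h1 := P.not_dvd_index
    rw [hP, index_bot] at h1
    exact h1 h.even.two_dvd
  · have h2 : IsPGroup 2 ↥((T : Subgroup G) ⊓ 𝐂 A) := T.isPGroup'.to_inf_left
    have h3 : 2 ∣ Nat.card ↥((T : Subgroup G) ⊓ 𝐂 A) := by
      rcases h2.card_eq_or_dvd with h4 | h4
      · exact absurd (Subgroup.eq_bot_of_card_eq _ h4) hb
      · exact h4
    obtain ⟨u, hu⟩ := exists_prime_orderOf_dvd_card' 2 h3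
    have hu' : orderOf (u : G) = 2 := by rw [Subgroup.orderOf_coe, hu]
    refine ⟨u, ?_, ?_, A, hA, le_cent_iff.2 u.2.2⟩
    · have := pow_orderOf_eq_one (u : G)
      rwa [hu', pow_two] at this
    · intro h1
      rw [h1, orderOf_one] at hu'
      exact absurd hu' (by decide)

end Cfsg.Lib.FSet
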