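import Cfsg.Agent.FSet.Basic
import Cfsg.Agent.FSet.Mid
import Cfsg.Agent.Block.ZStar
import Cfsg.Agent.Solv.Conj

/-!
# Sets of subgroups of order `p`: an application of the `Z*`-theorem
-/

set_option autoImplicit false

open scoped commutatorElement

namespace Cfsg.Lib.FSet

open Cfsg Subgroup Cfsg.Lib.Trans

local notation "𝐂" A:max => Subgroup.centralizer (SetLike.coe A)
local notation "𝐍" A:max => Subgroup.normalizer (SetLike.coe A)

universe u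

variable {G : Type u} [Group G] {p q k s : ℕ} {D : Set (Subgroup G)} {A B X Y X' : Subgroup G}
  {t g z : G}

variable [Finite G]

namespace Zst

theorem top_odd (h : MC p q k D) (ht : Iv D t) (N : Subgroup G) [N.Normal] (ho : Odd (Nat.card N))
    (hle : ∀ X ∈ D, X ≤ N ⊔ Gm D t) : False := by
  have h1 : N ⊔ Gm D t = ⊤ := top_le_iff.1 (h.gen.ge.trans (sSup_le hle))
  have h2 := Solv.card_sup_dvd_of_le_normalizer (N := N) (H := Gm D t)
    (by rw [normalizer_eq_top]; exact le_top)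
  rw [h1, card_top] at h2
  exact Nat.not_odd_iff_even.2 h.even ((ho.mul (h.gm_sol ht).odd).of_dvd_nat h2)

omit [Finite G] in
theorem cj_Zs_eq (hz : z ∈ Zs X) (hY : Y ≤ X) : cj z Y = Y :=
  cj_eq_of_mem_centralizer (centralizer_le hY (Zs_cent hz))

theorem refl (h : MC p q k D) (ht : Iv D t) (hX : X ∈ D) (hn : ¬ X ≤ centralizer {t}) :
    ∃ A ∈ D, A ≤ centralizer {t} ∧ A ≠ X ∧ ∃ y ∈ ⁅A ⊔ X, A ⊔ X⁆, cj y A = X ∧
      cj t X = cj y⁻¹ A ∧ t * y * t⁻¹ * y ∈ Zs (A ⊔ X) := by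
  obtain ⟨A, hA, h1, h2, -, -, h3, -⟩ := h.mid ht hX hn
  obtain ⟨y, hy, e⟩ := (h.line hA hX h2).tr A hA X hX le_sup_left le_sup_right
  refine ⟨A, hA, h1, h2, y, hy, e, ?_, h3 y hy⟩
  have h4 : cj t⁻¹ A = A := cj_eq_of_mem_centralizer (inv_mem (le_cent_iff.1 h1))
  rw [← cj_Zs_eq (h3 y hy) (cj_le_of_mem_of_le (inv_mem (comm_le hy)) le_sup_left), cj_cj,
    mul_inv_cancel_right, cj_mul, cj_mul, h4, e]

theorem line_le (h : MC p q k D) (ht : Iv D t) (hX : X ∈ D) (hn : ¬ X ≤ centralizer {t}) :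
    ∃ A ∈ D, A ≤ centralizer {t} ∧ A ≤ X ⊔ cj t X := by
  obtain ⟨A, hA, h1, h2, h3, -⟩ := h.mid ht hX hn
  refine ⟨A, hA, h1, le_sup_left.trans (h.lin A hA X hX h2 X hX _ (h.inv X hX t) (fun e => hn ?_)
    le_sup_right ((cj_mono t le_sup_right).trans (cj_eq_of_mem_normalizer h3).le))⟩
  exact le_cent_iff.2 (h.toFS.cent_of_norm hA hX (le_cent_iff.1 h1) (cj_eq_self_iff.1 e.symm))

theorem not_iso (h : MC p q k D) (ht : Iv D t) : ¬ IsIsolatedInvolution t := fun hi => by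
  refine top_odd h ht (oddCore G) (Nat.coprime_two_right.1 (Solv.coprime_card_pPrimeCore 2 G))
    fun X hX => ?_
  by_cases hn : X ≤ centralizer {t}
  · exact le_sup_of_le_right ((le_Gm hX).2 hn)
  obtain ⟨A, hA, h1, h2, y, hy, e, -, hz⟩ := refl h ht hX hn
  obtain ⟨j, hj⟩ := h.toFS.odd_line hA hX h2
  have h3 : y ^ (2 * j + 1) = 1 := by
    have := pow_card_eq_one' (x := (⟨y, comm_le hy⟩ : ↥(A ⊔ X)))
    rw [hj] at this
    exact congrArg Subtype.val this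
  have h4 : ((t * y * t⁻¹ * y : G) : G ⧸ oddCore G) = (y : G ⧸ oddCore G) ^ 2 := by
    rw [← QuotientGroup.mk_pow, QuotientGroup.eq_iff_div_mem]
    have := Block.Princ.zstar hi y
    rwa [show t * y * t⁻¹ * y / y ^ 2 = t * y * t⁻¹ * y⁻¹ by rw [div_eq_mul_inv]; group]
  have h5 : y * ((t * y * t⁻¹ * y) ^ (j + 1))⁻¹ ∈ oddCore G := by
    rw [← div_eq_mul_inv, ← QuotientGroup.eq_iff_div_mem, QuotientGroup.mk_pow, h4, ← pow_mul,
      ← QuotientGroup.mk_pow, show 2 * (j + 1) = 2 * j + 1 + 1 by ring, pow_succ, h3, one_mul]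
  rw [← e, ← inv_mul_cancel_right y ((t * y * t⁻¹ * y) ^ (j + 1)), cj_mul,
    cj_Zs_eq (pow_mem hz _) le_sup_left]
  exact cj_le_of_mem_of_le (mem_sup_left h5) (le_sup_of_le_right ((le_Gm hA).2 h1))

theorem sup_eq (h : MC p q k D) (hA : A ∈ D) (hB : B ∈ D) (hle : B ≤ pCore q G ⊔ A) :
    pCore q G ⊔ B = pCore q G ⊔ A := by
  have := Fact.mk h.qp
  obtain ⟨y, hy, e⟩ := h.toFS.tr_of hA hB (Solv.pCore_isPGroup q G)
    (by rw [normalizer_eq_top]; exact le_top) hle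
  refine le_antisymm (sup_le le_sup_left hle) (sup_le le_sup_left ?_)
  rw [← cj_inv_cj y A, e]
  exact cj_le_of_mem_of_le (mem_sup_left (inv_mem hy)) le_sup_right

theorem le_of_cent (h : MC p q k D) (ht : Iv D t) (hc : ⁅Gm D t, Gm D t⁆ ≤ pCore q G) (hA : A ∈ D)
    (h1 : A ≤ centralizer {t}) (hB : B ∈ D) (h2 : B ≤ centralizer {t}) : B ≤ pCore q G ⊔ A :=
  ((le_Gm hB).2 h2).trans (((h.gm_sol ht).sup A hA ((le_Gm hA).2 h1)).trans (sup_le_sup_right hc _))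

theorem cj_le (h : MC p q k D) (ht : Iv D t) (hc : ⁅Gm D t, Gm D t⁆ ≤ pCore q G) (hA : A ∈ D)
    (h1 : A ≤ centralizer {t}) (hX : X ∈ D) (hn : ¬ X ≤ pCore q G ⊔ A) {y : G}
    (hy : y ∈ ⁅A ⊔ X, A ⊔ X⁆) (e : cj y A = X) : cj t X ≤ pCore q G ⊔ cj y⁻¹ A := by
  have hne : A ≠ X := fun e => hn (e ▸ le_sup_right)
  obtain ⟨A1, hA1, h2, -, y1, hy1, e1, e2, -⟩ := refl h ht hX fun h0 => hn (le_of_cent h ht hc hA h1 hX h0)
  have h3 := le_of_cent h ht hc hA h1 hA1 h2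
  have nK : A ⊔ X ≤ 𝐍 ⁅A ⊔ X, A ⊔ X⁆ := le_normalizer.trans norm_comm
  have h4 : ⁅X ⊔ A1, X ⊔ A1⁆ ≤ pCore q G ⊔ ⁅A ⊔ X, A ⊔ X⁆ := by
    refine h.toFS.comm_le_of hX (fun x hx => cj_eq_self_iff.1 ?_) (h3.trans (sup_le ?_ ?_))
    · rw [cj_sup, cj_eq_of_normal, cj_eq_of_mem_normalizer (nK (mem_sup_right hx))]
    · exact le_sup_of_le_left le_sup_left
    · have := h.sup X hX A hA hne.symm
      rw [sup_comm X A] at this
      exact this.trans (sup_le_sup_right le_sup_right _)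
  rw [sup_comm X A1] at h4
  obtain ⟨n, hn0, v, hv, rfl⟩ := mem_sup_of_normal_left.1 (h4 hy1)
  have h5 : cj (v⁻¹ * y) A ≤ pCore q G ⊔ A := by
    rw [cj_mul, e, ← e1, cj_cj, show v⁻¹ * (n * v) = v⁻¹ * n * v⁻¹⁻¹ by group]
    exact cj_le_of_mem_of_le (mem_sup_left (Normal.conj_mem inferInstance n hn0 _)) h3
  have hvy : v⁻¹ * y ∈ ⁅A ⊔ X, A ⊔ X⁆ := mul_mem (inv_mem hv) hy
  have h6 : cj (v⁻¹ * y) A = A := by_contra fun h0 => hn (le_sup_right.trans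
    ((h.lin A hA X hX hne A hA _ (h.inv A hA _) (Ne.symm h0) le_sup_left
      (cj_le_of_mem_of_le (comm_le hvy) le_sup_left)).trans (sup_le le_sup_right h5)))
  have h7 : v⁻¹ * y ∈ Zs (A ⊔ X) := h.toFS.Zs_line hA hX hne ▸ ⟨hvy, h.toFS.cent_of_q hA
    (h.pK A hA X hX hne) (le_sup_left.trans nK) hvy (cj_eq_self_iff.1 h6)⟩
  rw [← cj_Zs_eq h7 (cj_le_of_mem_of_le (inv_mem (comm_le hy)) le_sup_left), cj_cj,
    mul_inv_cancel_right, e2, mul_inv_rev, cj_mul, ← cj_eq_of_normal v⁻¹ (pCore q G), ← cj_sup]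
  exact cj_mono _ (cj_le_of_mem_of_le (mem_sup_left (inv_mem hn0)) h3)

end Zst

theorem MC.zst (h : MC p q k D) (ht : Iv D t) : ¬ ⁅Gm D t, Gm D t⁆ ≤ pCore q G := fun hc => by
  have := Fact.mk h.qp
  have o2 : orderOf t = 2 := orderOf_eq_prime (by rw [pow_two, ht.sq]) ht.ne
  obtain ⟨g, c, ne⟩ : ∃ g, Commute t (g * t * g⁻¹) ∧ g * t * g⁻¹ ≠ t := by
    by_contra h0
    push Not at h0
    exact Zst.not_iso h ht ⟨o2, h0⟩
  obtain ⟨A0, hA0, a0⟩ := ht.pt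
  have ht' : Iv D (g * t * g⁻¹) := by
    refine ⟨by rw [show g * t * g⁻¹ * (g * t * g⁻¹) = g * (t * t) * g⁻¹ by group, ht.sq]; group,
      fun h0 => ht.ne (by simpa using h0), cj g A0, h.inv _ hA0 g, ?_⟩
    rw [← le_Gm (h.inv _ hA0 g), ← h.toFS.cj_Gm]
    exact cj_mono g ((le_Gm hA0).2 a0)
  have hc' : ⁅Gm D (g * t * g⁻¹), Gm D (g * t * g⁻¹)⁆ ≤ pCore q G := by
    rw [← h.toFS.cj_Gm, ← cj_commutator, ← cj_eq_of_normal g (pCore q G)]
    exact cj_mono g hc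
  generalize g * t * g⁻¹ = t' at c ne ht' hc'
  obtain ⟨A, hA, a1, a2⟩ : ∃ A ∈ D, A ≤ centralizer {t} ∧ A ≤ centralizer {t'} := by
    by_cases h0 : A0 ≤ centralizer {t'}
    · exact ⟨A0, hA0, a0, h0⟩
    obtain ⟨A, hA, h1, h2⟩ := Zst.line_le h ht' hA0 h0
    have h3 := (le_Gm hA0).2 a0
    refine ⟨A, hA, (h2.trans (sup_le h3 ((cj_mono _ h3).trans (cj_eq_of_mem_normalizer
      (h.toFS.norm_Gm t ?_)).le))).trans Gm_le, h1⟩
    exact mem_centralizer_singleton_iff.2 c.eq.symm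
  have au : A ≤ centralizer {t * t'} :=
    le_cent_iff.2 (mul_mem (le_cent_iff.1 a1) (le_cent_iff.1 a2))
  have hu : Iv D (t * t') := by
    refine ⟨?_, fun h0 => ne ?_, A, hA, au⟩
    · rw [mul_assoc, ← mul_assoc t', ← c.eq, mul_assoc, ht'.sq, mul_one, ht.sq]
    · exact mul_left_cancel (h0.trans ht.sq.symm)
  have key : ∀ X ∈ D, cj (t * t') X ≤ pCore q G ⊔ X := fun X hX => by
    by_cases hn : X ≤ pCore q G ⊔ A
    · rw [Zst.sup_eq h hA hX hn]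
      refine (cj_mono _ hn).trans ?_
      rw [cj_sup, cj_eq_of_normal _ (pCore q G), cj_eq_of_mem_centralizer (le_cent_iff.1 au)]
    have hne : A ≠ X := fun e => hn (e ▸ le_sup_right)
    obtain ⟨y, hy, e⟩ := (h.line hA hX hne).tr A hA X hX le_sup_left le_sup_right
    have h1 := Zst.cj_le h ht hc hA a1 hX hn hy e
    have h2 := Zst.cj_le h ht' hc' hA a2 hX hn hy e
    rw [← Zst.sup_eq h (h.inv A hA _) (h.inv X hX t) h1] at h2
    have h3 := cj_mono t h2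
    rwa [cj_cj, cj_sup, cj_eq_of_normal _ (pCore q G), cj_cj, ht.sq, cj_one] at h3
  refine Zst.top_odd h hu (pCore q G) ?_ fun X hX => ?_
  · obtain ⟨n, hn⟩ := (Solv.pCore_isPGroup q G).exists_card_eq
    rw [hn]
    exact (h.qp.odd_of_ne_two h.q2).pow
  by_cases hn : X ≤ centralizer {t * t'}
  · exact le_sup_of_le_right ((le_Gm hX).2 hn)
  obtain ⟨A2, hA2, h1, h2⟩ := Zst.line_le h hu hX hn
  refine le_sup_right.trans ((Zst.sup_eq h hX hA2 (h2.trans (sup_le le_sup_right (key X hX)))).ge.trans ?_)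
  exact sup_le_sup_left ((le_Gm hA2).2 h1) _

end Cfsg.Lib.FSet
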