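import Cfsg.Agent.FSet.Mid
import Cfsg.Agent.FSet.Adj
import Cfsg.Agent.FSet.Zst

/-!
# Bad points lie in blocks
-/

set_option autoImplicit false

open scoped commutatorElement

namespace Cfsg.Lib.FSet

open Cfsg Subgroup Cfsg.Lib.Trans

local notation "𝐂" A:max => Subgroup.centralizer (SetLike.coe A)
local notation "𝐍" A:max => Subgroup.normalizer (SetLike.coe A)

universe u

variable {G : Type u} [Group G] {p q k s : ℕ} {D : Set (Subgroup G)} {A B X Y X' : Subgroup G}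
  {t g z : G}

namespace Bad

theorem core_normal (q : ℕ) (G : Type u) [Group G] : (pCore q G).Normal :=
  Subgroup.sSup_normal _ (fun _ h => h.1)

theorem core_p (q : ℕ) (G : Type u) [Group G] : IsPGroup q (pCore q G) :=
  Sylow.sSup_of_normal _ (fun _ h => h.2) (fun _ h => h.1)

theorem mem_c1 : g ∈ centralizer ({t} : Set G) ↔ g * t = t * g := mem_centralizer_singleton_iff

theorem norm_sup (hg : g ∈ 𝐍 X) : g ∈ 𝐍 (X ⊔ pCore q G) := by
  have := core_normal q G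
  rw [← cj_eq_self_iff, cj_sup, cj_eq_of_mem_normalizer hg, cj_eq_of_normal]

end Bad

open Bad

variable [Finite G]

theorem MC.nb_cj (h : MC p q k D) (b : Nb q D t X) (hg : g * t = t * g) : Nb q D t (cj g X) where
  toBlk := h.blk_cj b.toBlk g
  le := by
    rw [← cj_eq_of_mem_normalizer (h.toFS.norm_Gm t (mem_c1.2 hg))]
    exact cj_mono g b.le
  nt := by
    rw [← cj_normalizer, mem_cj, mul_assoc, ← hg, inv_mul_cancel_left]
    exact b.nt
  ex := by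
    obtain ⟨z, hz, hzt, hz'⟩ := b.ex
    refine ⟨g * z * g⁻¹, ?_, ?_, fun e => hz' ?_⟩
    · rw [← cj_Zs]
      exact conj_mem_cj.2 hz
    · have h1 : g⁻¹ * t = t * g⁻¹ := (Commute.inv_left hg).eq
      rw [mul_assoc, h1, ← mul_assoc, mul_assoc g, hzt, ← mul_assoc, hg]
      simp only [mul_assoc]
    · simpa [mul_assoc] using (core_normal q G).conj_mem _ e g⁻¹

theorem MC.bad (h : MC p q k D) (ht : Iv D t) (hX : X ∈ D) (hb : ¬ Good t X) :
    ∃ Y, Nb q D t Y ∧ X ≤ Y ∧ ¬ Zs (Gm D t ⊔ X) ≤ center G ∧ ∃ Y', Nb q D t Y' ∧ Y' ≠ Y := by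
  obtain ⟨A, hA, hAt, hne, -, hZt, -, hw⟩ := h.mid ht hX fun e => hb (h.good_of ht hX e)
  have hAG : A ≤ Gm D t := (le_Gm hA).2 hAt
  have h1 : ¬ Zs (A ⊔ X) ≤ Ot t := by
    intro e
    refine hb fun w hwX hw1 => ?_
    obtain ⟨x, hx, z, hz, hc⟩ := hw w hwX hw1
    exact ⟨x * z, mul_mem (h.gm_Ot ht (hAG hx)) (e hz), hc⟩
  obtain ⟨z, hz, hzO⟩ := SetLike.not_le_iff_exists.1 h1
  have SM := h.line hA hX hne
  have SG := h.gm_sol ht
  have hzt := hZt hz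
  have hzN : z ∉ pCore q G := fun e => hzO (h.core_Ot t ⟨e, hzt⟩)
  have hzc : z ∉ center G := fun e => hzN (mem_pCore_of_center h.qp e SM.pZ hz)
  obtain ⟨b, hMY, hzY⟩ := h.blk_Gm (h.ne_top SM.odd) SM.gen hz hzc
  have hzG : z ∈ 𝐍 (Gm D t) := h.toFS.norm_Gm t hzt
  have hGY : Gm D t ≤ Gm D z := by
    by_cases hc : Zs (Gm D t) ≤ center G
    · have h2 : z ∈ 𝐂 (Gm D t) := by
        refine SG.lx h.toFS hA hAG hzG (centralizer_le (SetLike.coe_subset_coe.2 le_sup_left)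
          (Zs_cent hz)) (SM.pZ.to_le (zpowers_le.2 hz)) fun y hy => ?_
        exact (mem_center_iff.1 (hc hy) z).symm
      rw [← sp_Gm]
      exact sp_mono (le_cent_iff.2 h2)
    · obtain ⟨z1, hz1, hz1c⟩ := SetLike.not_le_iff_exists.1 hc
      obtain ⟨b1, hG1, -⟩ := h.blk_Gm (h.ne_top SG.odd) SG.gen hz1 hz1c
      have h2 : Gm D t ≤ cj z (Gm D z1) := by
        rw [← cj_eq_of_mem_normalizer hzG]
        exact cj_mono z hG1
      have h3 := h.blk_uniq SG.gen hc b1 (h.blk_cj b1 z) hG1 h2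
      by_cases e : Gm D z1 = Gm D z
      · exact e ▸ hG1
      · exact absurd (h.adj b1 b e hA (hAG.trans hG1) (le_sup_left.trans hMY)
          ⟨hzY, cj_eq_self_iff.1 h3.symm⟩) hzN
  have nb : Nb q D t (Gm D z) :=
    { toBlk := b
      le := hGY
      nt := h.toFS.norm_Gm z (mem_c1.2 (mem_c1.1 hzt).symm)
      ex := ⟨z, hzY, mem_c1.1 hzt, hzN⟩ }
  have hXY : X ≤ Gm D z := le_sup_right.trans hMY
  refine ⟨_, nb, hXY, fun e => hzc (e ?_), ?_⟩
  · refine h.Zs_mono (sup_le_sup_right hAG X) (fun e => b.ne ?_) SM.gen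
      (sp_sup sp_Gm (sp_pt hX)) hz
    exact top_le_iff.1 (e ▸ sup_le hGY hXY)
  · by_contra hn
    have h2 : centralizer {t} ≤ 𝐍 (Gm D z) := by
      intro g hg
      by_contra e
      exact hn ⟨_, h.nb_cj nb (mem_c1.1 hg), fun e' => e (cj_eq_self_iff.1 e')⟩
    have h3 : Zs (Gm D z) ⊓ centralizer {t} ≤ Ot t := by
      refine le_Ot inf_le_right (fun g hg => ?_) ?_
      · rw [← cj_eq_self_iff, cj_inf, cj_eq_of_mem_normalizer (norm_Zs (h2 hg)), cj_eq_of_mem hg]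
      · exact (h.blk_sol b).odd.of_dvd_nat
          (card_dvd_of_le (inf_le_left.trans (Zs_le.trans comm_le)))
    exact hzO (h3 ⟨hzY, hzt⟩)

theorem MC.zm (h : MC p q k D) (ht : Iv D t) (b : Nb q D t Y) (b' : Nb q D t X') (hne : X' ≠ Y) :
    ∃ z ∈ Zs Y, t * z * t⁻¹ = z⁻¹ ∧ z ∉ pCore q G := by
  have := core_normal q G
  have SG := h.gm_sol ht
  have SY := h.blk_sol b.toBlk
  have hc : Zs (Gm D t) ≤ center G := by
    by_contra e
    exact hne (h.blk_uniq SG.gen e b.toBlk b'.toBlk b.le b'.le).symm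
  obtain ⟨A, hA, hAt⟩ := ht.pt
  have hAG : A ≤ Gm D t := (le_Gm hA).2 hAt
  have hAY : A ≤ Y := hAG.trans b.le
  have hPQ : ⁅Gm D t, Gm D t⁆ ≤ ⁅Y, Y⁆ := commutator_mono b.le b.le
  have tt : ∀ x : G, t * (t * x * t⁻¹) * t⁻¹ = x := by
    intro x
    have : t * (t * x * t⁻¹) * t⁻¹ = (t * t) * x * (t * t)⁻¹ := by group
    rw [this, ht.sq]
    group
  by_contra hn
  have h0 : ∀ z ∈ Zs Y, z⁻¹ * (t * z * t⁻¹) ∈ pCore q G := by
    intro z hz
    by_contra e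
    refine hn ⟨_, mul_mem (inv_mem hz) (mem_normalizer_conj (norm_Zs b.nt) hz), ?_, e⟩
    calc t * (z⁻¹ * (t * z * t⁻¹)) * t⁻¹
        = (t * z * t⁻¹)⁻¹ * (t * (t * z * t⁻¹) * t⁻¹) := by group
      _ = _ := by rw [tt]; group
  have cm : ∀ u ∈ ⁅Y, Y⁆, ∀ x ∈ ⁅Y, Y⁆, ⁅u, x⁆ ∈ Zs Y := fun u hu x hx =>
    SY.cl2 ▸ commutator_mem_commutator hu hx
  have h1 : ∀ u ∈ ⁅Gm D t, Gm D t⁆, ∀ x ∈ ⁅Y, Y⁆, ⁅u, x⁆ ∈ pCore q G := by
    intro u hu x hx
    have hut : t * u * t⁻¹ = u := by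
      rw [← mem_c1.1 (Gm_le (comm_le hu)), mul_inv_cancel_right]
    have hx1 : t * x * t⁻¹ ∈ ⁅Y, Y⁆ := mem_normalizer_conj (norm_comm b.nt) hx
    have hx' := mul_mem hx hx1
    have e1 : t * ⁅u, x⁆ * t⁻¹ = ⁅u, t * x * t⁻¹⁆ := by
      rw [conjugate_commutatorElement, hut]
    have e2 : ⁅u, x⁆ * ⁅u, t * x * t⁻¹⁆ = ⁅u, x * (t * x * t⁻¹)⁆ := by
      have e := mem_centralizer_iff.1 (Zs_cent (cm u (hPQ hu) _ hx1)) x (comm_le hx)
      calc _ = ⁅u, x⁆ * (⁅u, t * x * t⁻¹⁆ * x) * x⁻¹ := by group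
        _ = _ := by
          rw [← e]
          simp only [commutatorElement_def]
          group
    have h2 : cj (x * (t * x * t⁻¹)) A ≤ centralizer {t} := by
      refine (SY.fix h.toFS hA hAY b.nt (le_cent_iff.1 hAt) hx').1 ?_
      have e : (x * (t * x * t⁻¹))⁻¹ * (t * (x * (t * x * t⁻¹)) * t⁻¹) =
          ⁅(t * x * t⁻¹)⁻¹, x⁻¹⁆ := by
        calc _ = (x * (t * x * t⁻¹))⁻¹ * (t * x * t⁻¹ * (t * (t * x * t⁻¹) * t⁻¹)) := by group
          _ = _ := by rw [tt, commutatorElement_def]; group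
      rw [e]
      exact cm _ (inv_mem hx1) _ (inv_mem hx)
    obtain ⟨y, hy, e3⟩ := SG.tr A hA _ (h.inv A hA _) hAG ((le_Gm (h.inv A hA _)).2 h2)
    have hyx := mul_mem (inv_mem (hPQ hy)) hx'
    have h3 : y⁻¹ * (x * (t * x * t⁻¹)) ∈ Zs Y := by
      rw [← SY.Zs_eq h.toFS hA hAY]
      refine ⟨hyx, h.toFS.cent_of_q hA SY.pQ (hAY.trans (le_normalizer.trans norm_comm)) hyx ?_⟩
      rw [← cj_eq_self_iff, cj_mul, ← e3, cj_inv_cj]
    have e4 : ⁅u, x * (t * x * t⁻¹)⁆ = ⁅u, y⁆ := by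
      have e := conj_eq_of_mem_centralizer (Zs_cent h3) (inv_mem (comm_le (hPQ hu)))
      calc _ = u * y * u⁻¹ * (u * ((y⁻¹ * (x * (t * x * t⁻¹))) * u⁻¹ *
            (y⁻¹ * (x * (t * x * t⁻¹)))⁻¹)) * y⁻¹ := by rw [commutatorElement_def]; group
        _ = _ := by rw [e, commutatorElement_def]; group
    have h4 : ⁅u, y⁆ ∈ Zs (Gm D t) := SG.cl2 ▸ commutator_mem_commutator hu hy
    have h5 := mem_pCore_of_center h.qp (hc h4) SG.pZ h4
    rw [← e4, ← e2, ← e1] at h5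
    have hz := cm u (hPQ hu) x hx
    refine mem_of_zpow_mem (m := 2) h.qp SY.pZ hz ?_ ?_
    · intro e
      have e' : q ∣ 2 := by exact_mod_cast e
      exact h.q2 ((Nat.prime_dvd_prime_iff_eq h.qp Nat.prime_two).1 e')
    · have := mul_mem h5 (inv_mem (h0 _ hz))
      convert this using 1
      rw [zpow_two]
      group
  have hY : Y ≤ 𝐍 (⁅Gm D t, Gm D t⁆ ⊔ pCore q G) := by
    refine (SY.sup A hA hAY).trans (sup_le (fun x hx => mem_normalizer_of_cj_le ?_)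
      fun a ha => Bad.norm_sup (norm_comm (le_normalizer (hAG ha))))
    rw [cj_sup, cj_eq_of_normal x (pCore q G)]
    refine sup_le (cj_le_iff.2 fun u hu => ?_) le_sup_right
    have e : x * u * x⁻¹ = ⁅u, x⁆⁻¹ * u := by rw [commutatorElement_def]; group
    rw [e]
    exact mul_mem (mem_sup_right (inv_mem (h1 u hu x hx))) (mem_sup_left hu)
  by_cases hR : 𝐍 (⁅Gm D t, Gm D t⁆ ⊔ pCore q G) = ⊤
  · refine h.zst ht (le_sup_left.trans (le_sSup (s := {N : Subgroup G | N.Normal ∧ IsPGroup q N})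
      ⟨normalizer_eq_top_iff.1 hR, SG.pQ.to_sup_of_normal_right (core_p q G)⟩))
  · have e : sp D (𝐍 (⁅Gm D t, Gm D t⁆ ⊔ pCore q G)) = Y :=
      le_antisymm (b.max _ hR hY) (b.gen.ge.trans (sp_mono hY))
    obtain ⟨z, hz, hzt, hzN⟩ := b'.ex
    refine hzN (h.adj b.toBlk b'.toBlk hne.symm hA hAY (hAG.trans b'.le) ⟨hz, ?_⟩)
    rw [← e]
    exact h.toFS.norm_sp _ (le_normalizer (Bad.norm_sup (norm_comm (h.toFS.norm_Gm t (mem_c1.2 hzt)))))

end Cfsg.Lib.FSet
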