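import Cfsg.Agent.FSet.Cnt
import Cfsg.Agent.Char.DegBasic

set_option autoImplicit false
set_option linter.unusedSectionVars false
set_option linter.unusedVariables false

open scoped commutatorElement

namespace Cfsg.Lib.FSet

open Cfsg Subgroup Cfsg.Lib.Trans

local notation "𝐂" A:max => Subgroup.centralizer (SetLike.coe A)
local notation "𝐍" A:max => Subgroup.normalizer (SetLike.coe A)

universe u

variable {G : Type u} [Group G] {p q k s : ℕ} {D : Set (Subgroup G)} {A B X Y X' : Subgroup G}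
  {t g z : G}

variable [Finite G]

theorem Zs_conj {c l : G} (hc : c ∈ Zs X) (hl : l ∈ X) : l * c * l⁻¹ = c := by
  rw [mem_centralizer_iff.1 (Zs_cent hc) l hl, mul_inv_cancel_right]

theorem FS.camina (h : FS p q k D) (hA : A ∈ D) (hB : B ∈ D) (hne : A ≠ B)
    (hS : Sol q D (A ⊔ B)) {x : G} (hx : x ∈ ⁅A ⊔ B, A ⊔ B⁆) (hx' : x ∉ Zs (A ⊔ B))
    (hz : z ∈ Zs (A ⊔ B)) : ∃ y ∈ ⁅A ⊔ B, A ⊔ B⁆, y * x * y⁻¹ = x * z := by
  have hm : ∀ u ∈ ⁅A ⊔ B, A ⊔ B⁆, ∀ v ∈ ⁅A ⊔ B, A ⊔ B⁆, ⁅u, v⁆ ∈ Zs (A ⊔ B) := fun u hu v hv =>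
    hS.cl2 ▸ commutator_mem_commutator hu hv
  let Zx : Subgroup G :=
    { carrier := {c | ∃ y ∈ ⁅A ⊔ B, A ⊔ B⁆, ⁅y, x⁆ = c}
      one_mem' := ⟨1, one_mem _, commutatorElement_one_left x⟩
      mul_mem' := by
        rintro _ _ ⟨y, hy, rfl⟩ ⟨w, hw, rfl⟩
        refine ⟨w * y, mul_mem hw hy, ?_⟩
        rw [← Zs_conj (hm y hy x hx) (comm_le hw), ← Zs_conj (hm w hw x hx) (comm_le hw)]
        have e := Zs_conj (hm w hw x hx) (comm_le hw)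
        rw [e]
        simp only [commutatorElement_def]
        group
      inv_mem' := by
        rintro _ ⟨y, hy, rfl⟩
        refine ⟨y⁻¹, inv_mem hy, ?_⟩
        rw [← Zs_conj (hm y hy x hx) (comm_le (inv_mem hy))]
        simp only [commutatorElement_def]
        group }
  let W : Subgroup G :=
    { carrier := {y | y ∈ ⁅A ⊔ B, A ⊔ B⁆ ∧ ∀ w ∈ ⁅A ⊔ B, A ⊔ B⁆, ⁅w, y⁆ ∈ Zx}
      one_mem' := ⟨one_mem _, fun w _ => by rw [commutatorElement_one_right]; exact one_mem _⟩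
      mul_mem' := by
        rintro u v ⟨hu, hu'⟩ ⟨hv, hv'⟩
        refine ⟨mul_mem hu hv, fun w hw => ?_⟩
        have e : ⁅w, u * v⁆ = ⁅w, u⁆ * ⁅w, v⁆ := by
          rw [← Zs_conj (hm w hw v hv) (comm_le hu)]
          simp only [commutatorElement_def]
          group
        rw [e]
        exact mul_mem (hu' w hw) (hv' w hw)
      inv_mem' := by
        rintro u ⟨hu, hu'⟩
        refine ⟨inv_mem hu, fun w hw => ?_⟩
        have e : ⁅w, u⁻¹⁆ = ⁅w, u⁆⁻¹ := by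
          rw [← Zs_conj (hm w hw u hu) (comm_le (inv_mem hu))]
          simp only [commutatorElement_def]
          group
        rw [e]
        exact inv_mem (hu' w hw) }
  have hn : A ≤ 𝐍 W := fun a ha => by
    have haL : a ∈ A ⊔ B := mem_sup_left ha
    have haK : a ∈ 𝐍 ⁅A ⊔ B, A ⊔ B⁆ := norm_comm (le_normalizer haL)
    refine mem_normalizer_of_cj_le (cj_le_iff.2 fun y hy => ⟨mem_normalizer_conj haK hy.1,
      fun w hw => ?_⟩)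
    have hw' : a⁻¹ * w * a ∈ ⁅A ⊔ B, A ⊔ B⁆ := by
      have := mem_normalizer_conj (inv_mem haK) hw
      rwa [inv_inv] at this
    have e : ⁅w, a * y * a⁻¹⁆ = ⁅a⁻¹ * w * a, y⁆ := by
      rw [← Zs_conj (hm _ hw' y hy.1) haL]
      simp only [commutatorElement_def]
      group
    rw [e]
    exact hy.2 _ hw'
  have hW : W = ⁅A ⊔ B, A ⊔ B⁆ := h.irr hA hB hne (fun y hy => hy.1) hn fun hle =>
    hx' (hle ⟨hx, fun w hw => ⟨w, hw, rfl⟩⟩)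
  have hZ : Zs (A ⊔ B) ≤ Zx := by
    rw [← hS.cl2]
    exact commutator_le.2 fun u hu v hv => (hW.ge hv).2 u hu
  obtain ⟨y, hy, e⟩ := hZ hz
  refine ⟨y, hy, ?_⟩
  rw [mem_centralizer_iff.1 (Zs_cent hz) x (comm_le hx), ← e, commutatorElement_def]
  group

theorem FS.coset (h : FS p q k D) (hA : A ∈ D) (hB : B ∈ D) (hne : A ≠ B)
    (hg : g ∈ 𝐍 (A ⊔ B))
    (hf : ∀ y ∈ ⁅A ⊔ B, A ⊔ B⁆, g * y * g⁻¹ * y⁻¹ ∈ Zs (A ⊔ B) → y ∈ Zs (A ⊔ B)) {x : G}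
    (hx : x ∈ ⁅A ⊔ B, A ⊔ B⁆) :
    ∃ y ∈ ⁅A ⊔ B, A ⊔ B⁆, ∃ z ∈ Zs (A ⊔ B), y * (x * g) * y⁻¹ = z * g := by
  have hK : g ∈ 𝐍 ⁅A ⊔ B, A ⊔ B⁆ := norm_comm hg
  have hZ : g ∈ 𝐍 (Zs (A ⊔ B)) := norm_Zs hg
  let f : ↥⁅A ⊔ B, A ⊔ B⁆ → ↥⁅A ⊔ B, A ⊔ B⁆ := fun y =>
    ⟨(y : G)⁻¹ * (g * y * g⁻¹), mul_mem (inv_mem y.2) (mem_normalizer_conj hK y.2)⟩
  have hw : ∀ u v : ↥⁅A ⊔ B, A ⊔ B⁆,
      (QuotientGroup.leftRel ((Zs (A ⊔ B)).subgroupOf ⁅A ⊔ B, A ⊔ B⁆)) u v →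
      (QuotientGroup.leftRel ((Zs (A ⊔ B)).subgroupOf ⁅A ⊔ B, A ⊔ B⁆)) (f u) (f v) := by
    intro u v huv
    rw [QuotientGroup.leftRel_apply, mem_subgroupOf] at huv ⊢
    have h1 : (u : G)⁻¹ * v ∈ Zs (A ⊔ B) := huv
    have h2 := mem_normalizer_conj hZ h1
    have h3 := Zs_conj (inv_mem h1) (comm_le (inv_mem (f u).2))
    have e : (((f u)⁻¹ * f v : ↥⁅A ⊔ B, A ⊔ B⁆) : G) =
        ((u : G)⁻¹ * v)⁻¹ * (g * ((u : G)⁻¹ * v) * g⁻¹) := by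
      rw [← h3]
      simp only [f, coe_mul, coe_inv]
      group
    rw [e]
    exact mul_mem (inv_mem h1) h2
  let F : ↥⁅A ⊔ B, A ⊔ B⁆ ⧸ (Zs (A ⊔ B)).subgroupOf ⁅A ⊔ B, A ⊔ B⁆ →
      ↥⁅A ⊔ B, A ⊔ B⁆ ⧸ (Zs (A ⊔ B)).subgroupOf ⁅A ⊔ B, A ⊔ B⁆ := Quotient.map' f hw
  have hi : Function.Injective F := by
    intro a b hab
    induction a using QuotientGroup.induction_on with | H u => ?_
    induction b using QuotientGroup.induction_on with | H v => ?_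
    have h1 : ((f u : ↥⁅A ⊔ B, A ⊔ B⁆) : _ ⧸ (Zs (A ⊔ B)).subgroupOf ⁅A ⊔ B, A ⊔ B⁆) = (f v :) :=
      hab
    rw [QuotientGroup.eq, mem_subgroupOf] at h1 ⊢
    have h2 : (((f u)⁻¹ * f v : ↥⁅A ⊔ B, A ⊔ B⁆) : G) =
        (g * u * g⁻¹)⁻¹ * ((v : G) * (u : G)⁻¹)⁻¹ * (g * v * g⁻¹) := by
      simp only [f, coe_mul, coe_inv]
      group
    rw [h2] at h1
    have hvu : (v : G) * (u : G)⁻¹ ∈ ⁅A ⊔ B, A ⊔ B⁆ := mul_mem v.2 (inv_mem u.2)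
    have h3 := Zs_conj h1 (comm_le (mul_mem hvu (mem_normalizer_conj hK u.2)))
    have h4 := hf _ hvu (by
      rw [← h3] at h1
      convert h1 using 1
      group)
    have h5 := Zs_conj h4 (comm_le (inv_mem u.2))
    rw [← h5] at h4
    convert h4 using 1
    simp only [coe_mul, coe_inv]
    group
  obtain ⟨a, ha⟩ := Finite.surjective_of_injective hi (⟨x, hx⟩ : ↥⁅A ⊔ B, A ⊔ B⁆)
  induction a using QuotientGroup.induction_on with | H y => ?_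
  have h1 : ((f y : ↥⁅A ⊔ B, A ⊔ B⁆) : _ ⧸ (Zs (A ⊔ B)).subgroupOf ⁅A ⊔ B, A ⊔ B⁆) =
      ((⟨x, hx⟩ : ↥⁅A ⊔ B, A ⊔ B⁆) :) := ha
  rw [QuotientGroup.eq, mem_subgroupOf] at h1
  have h2 : ((y : G)⁻¹ * (g * y * g⁻¹))⁻¹ * x ∈ Zs (A ⊔ B) := h1
  refine ⟨y, y.2, _, h2, ?_⟩
  rw [← Zs_conj h2 (comm_le (mem_normalizer_conj hK y.2))]
  group

theorem FS.fpf (h : FS p q k D) (hA : A ∈ D) (hB : B ∈ D) (hne : A ≠ B) {a y : G} (ha : a ∈ A)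
    (h1 : a ≠ 1) (hy : y ∈ ⁅A ⊔ B, A ⊔ B⁆) (hz : a * y * a⁻¹ * y⁻¹ ∈ Zs (A ⊔ B)) :
    y ∈ Zs (A ⊔ B) := by
  have hp : a ^ p = 1 := by
    have := pow_card_eq_one' (x := (⟨a, ha⟩ : A))
    rw [h.card A hA] at this
    exact congrArg Subtype.val this
  have hc : Commute (a * y * a⁻¹ * y⁻¹) a :=
    (mem_centralizer_iff.1 (Zs_cent hz) a (mem_sup_left ha)).symm
  have e : y⁻¹ * a * y⁻¹⁻¹ = a * y * a⁻¹ * y⁻¹ * a := by
    rw [← Zs_conj hz (comm_le (inv_mem hy))]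
    group
  have h2 : (a * y * a⁻¹ * y⁻¹) ^ (p : ℤ) ∈ (⊥ : Subgroup G) := by
    have := congrArg (· ^ p) e
    simp only [conj_pow, hc.mul_pow, hp, mul_one, mul_inv_cancel] at this
    rw [zpow_natCast, ← this]
    exact one_mem _
  have h3 := mem_of_zpow_mem h.qp (h.pK A hA B hB hne) (Zs_le hz) (m := p) (fun hd =>
    h.pq ((Nat.prime_dvd_prime_iff_eq h.qp h.pp).1 (Int.natCast_dvd_natCast.1 hd)).symm) h2
  rw [mem_bot] at h3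
  rw [← h.Zs_line hA hB hne]
  refine ⟨hy, le_cent_iff.1 ?_⟩
  rw [← h.zp hA ha h1]
  refine zpowers_le.2 (mem_centralizer_singleton_iff.2 ?_)
  calc a * y = a * y * a⁻¹ * y⁻¹ * (y * a) := by group
    _ = y * a := by rw [h3, one_mul]

theorem FS.sq (h : FS p q k D) (hA : A ∈ D) (hB : B ∈ D) (hne : A ≠ B) (hS : Sol q D (A ⊔ B)) :
    ∃ s, k = s ^ 2 ∧ 5 ≤ s ∧ (q = 3 → 8 ≤ s) := by
  obtain ⟨c, hc, hc1⟩ : ∃ c ∈ Zs (A ⊔ B), c ≠ 1 := by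
    by_contra hn
    push Not at hn
    refine h.nab A hA B hB hne fun u hu => mem_centralizer_iff.2 fun v hv => ?_
    exact commutatorElement_eq_one_iff_mul_comm.1
      (hn _ (hS.cl2 ▸ commutator_mem_commutator hv hu))
  obtain ⟨χ, hχ, -, hk⟩ := Char.exists_irr_le_charKer_not_mem (⊥ : Subgroup ↥⁅A ⊔ B, A ⊔ B⁆)
    (g := ⟨c, Zs_le hc⟩) fun hm => hc1 (congrArg Subtype.val (mem_bot.1 hm))
  have hZ : (Zs (A ⊔ B)).subgroupOf ⁅A ⊔ B, A ⊔ B⁆ ≤ Char.charCenter χ :=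
    le_trans (fun u hu => mem_center_iff.2 fun v =>
      Subtype.ext (mem_centralizer_iff.1 (Zs_cent (mem_subgroupOf.1 hu)) v (comm_le v.2)))
      hχ.center_le_charCenter
  have hs : charDegree χ ^ 2 = k := by
    rw [← h.idx A hA B hB hne]
    refine (hχ.nat_degree_sq_eq_index_iff hZ (Char.Deg.apply_one_eq hχ.isCharacter)).2
      fun x hx => ?_
    obtain ⟨y, hy, e⟩ := h.camina hA hB hne hS x.2 hx hc
    have e' : ⁅(⟨y, hy⟩ : ↥⁅A ⊔ B, A ⊔ B⁆), x⁆ = ⟨c, Zs_le hc⟩ := by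
      refine Subtype.ext ?_
      rw [commutatorElement_def]
      change y * x * y⁻¹ * (x : G)⁻¹ = c
      rw [e, Zs_conj hc (comm_le x.2)]
    refine hχ.isClassFunction.apply_eq_zero_of_commutator (x := ⟨y, hy⟩) ?_ ?_
    · rw [e']; exact hZ hc
    · rw [e']; exact hk
  obtain ⟨m, hm, hkm⟩ := h.k_pow hA hB hne
  have hd := h.p_dvd hA hB hne
  generalize charDegree χ = s at hs
  obtain ⟨j, -, hj⟩ := (Nat.dvd_prime_pow h.qp).1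
    (show s ∣ q ^ m by rw [← hkm, ← hs]; exact dvd_pow_self s two_ne_zero)
  have hq := h.qp.two_le
  have h1 : s ≠ 1 := by
    rintro rfl
    have := Nat.one_lt_pow hm.ne' h.qp.one_lt
    omega
  have h3 : s ≠ 3 := by
    rintro rfl
    rw [← hs] at hd
    exact h.p2 ((Nat.prime_dvd_prime_iff_eq h.pp Nat.prime_two).1
      (h.pp.dvd_of_dvd_pow (n := 3) hd))
  have ho : Odd s := hj ▸ (h.qp.odd_of_ne_two h.q2).pow
  obtain ⟨r, hr⟩ := ho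
  refine ⟨s, hs.symm, by omega, ?_⟩
  rintro rfl
  rcases j with _ | _ | j
  · exact absurd hj h1
  · exact absurd hj h3
  · have : 0 < 3 ^ j := by positivity
    rw [hj, pow_succ, pow_succ]
    omega

end Cfsg.Lib.FSet
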