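import Cfsg.Agent.FSet.BdlA
import Cfsg.Agent.FSet.Cnt
import Cfsg.Agent.FSet.Sq

/-!
# The character bound on one line
-/

set_option autoImplicit false

open scoped commutatorElement

namespace Cfsg.Lib.FSet

open Cfsg Subgroup Cfsg.Lib.Trans

local notation "𝐂" A:max => Subgroup.centralizer (SetLike.coe A)
local notation "𝐍" A:max => Subgroup.normalizer (SetLike.coe A)

universe u

variable {G : Type u} [Group G] {p q k s : ℕ} {D : Set (Subgroup G)} {A B X Y X' : Subgroup G}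
  {t g z : G} [Finite G]

namespace Bdl

open scoped Classical

theorem dt (h : FS p q k D) (hA : A ∈ D) (hB : B ∈ D) (hne : A ≠ B) (hS : Sol q D (A ⊔ B))
    (hs : k = s ^ 2) : Dt (⁅A ⊔ B, A ⊔ B⁆.subgroupOf (A ⊔ B)) ((Zs (A ⊔ B)).subgroupOf (A ⊔ B))
      (A.subgroupOf (A ⊔ B)) s := by
  have nm : (⁅A ⊔ B, A ⊔ B⁆.subgroupOf (A ⊔ B)).Normal :=
    (normal_subgroupOf_iff_le_normalizer comm_le).2 (le_normalizer.trans norm_comm)
  refine ⟨nm, isComplement'_of_disjoint_and_mul_eq_univ ?_ ?_, comap_mono Zs_le, fun x hx => ?_, ?_,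
    fun x hx hx' z hz => ?_, fun a ha h1 x hx => ?_⟩
  · exact disjoint_def.2 fun h1 h2 => Subtype.ext (mem_bot.1 (h.inf_q hA (h.pK A hA B hB hne) ▸ ⟨h1, h2⟩))
  · rw [← normal_mul, ← subgroupOf_sup comm_le le_sup_left, subgroupOf_eq_top.2 (h.line_le hA hB hne), coe_top]
  · exact mem_center_iff.2 fun y => Subtype.ext (Zs_cent hx y y.2)
  · rw [Nat.card_congr (subgroupOfEquivOfLe comm_le).toEquiv,
      Nat.card_congr (subgroupOfEquivOfLe (Zs_le.trans comm_le)).toEquiv, ← hs, ← h.idx A hA B hB hne,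
      ← Nat.card_congr (subgroupOfEquivOfLe Zs_le).toEquiv, relIndex, index_mul_card]
  · obtain ⟨y, hy, e⟩ := h.camina hA hB hne hS hx hx' hz
    exact isConj_iff.2 ⟨⟨y, comm_le hy⟩, Subtype.ext (e.trans (Zs_cent hz x x.2))⟩
  · obtain ⟨y, hy, z, hz, e⟩ := h.coset hA hB hne (le_normalizer a.2)
      (fun y hy => h.fpf hA hB hne ha (by simpa using h1) hy) hx
    exact ⟨⟨z, comm_le (Zs_le hz)⟩, hz, isConj_iff.2 ⟨⟨y, comm_le hy⟩, Subtype.ext e⟩⟩

theorem sum_line (h : FS p q k D) (hA : A ∈ D) (hB : B ∈ D) (hne : A ≠ B) (hS : Sol q D (A ⊔ B))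
    [Fintype ↥(A ⊔ B)] {φ : ↥(A ⊔ B) → ℂ} (hφ : IsClassFunction _ φ) :
    ∑ w ∈ Finset.univ.filter (fun w : ↥(A ⊔ B) => w.1 ∈ Wt D (A ⊔ B)), φ w =
      k * (∑ a : A.subgroupOf (A ⊔ B), φ a - φ 1) := by
  have e : Finset.univ.filter (fun w : ↥(A ⊔ B) => w.1 ∈ Wt D (A ⊔ B)) =
      (Set.toFinite {C | C ∈ D ∧ C ≤ A ⊔ B}).toFinset.biUnion
        fun C => Finset.univ.filter fun w : ↥(A ⊔ B) => w ≠ 1 ∧ w.1 ∈ C := by
    ext w
    simp only [Wt, Finset.mem_filter, Finset.mem_univ, true_and, Set.mem_ofPred_eq, Finset.mem_biUnion,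
      Set.Finite.mem_toFinset, ne_eq, OneMemClass.coe_eq_one]
    exact ⟨fun ⟨a, C, b, c, d⟩ => ⟨C, ⟨b, c⟩, a, d⟩, fun ⟨C, ⟨b, c⟩, a, d⟩ => ⟨a, C, b, c, d⟩⟩
  rw [e, Finset.sum_biUnion, ← h.card_pts hA hB hne, Set.ncard_eq_toFinset_card _ (Set.toFinite _),
    ← nsmul_eq_mul, ← Finset.sum_const]
  · refine Finset.sum_congr rfl fun C hC => ?_
    simp only [Set.Finite.mem_toFinset, Set.mem_ofPred_eq] at hC
    obtain ⟨x, hx, rfl⟩ := hS.tr A hA C hC.1 le_sup_left hC.2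
    rw [← sum_erase]
    symm
    refine Finset.sum_bij (fun a _ => (⟨x, comm_le hx⟩ : ↥(A ⊔ B)) * a * (⟨x, comm_le hx⟩ : ↥(A ⊔ B))⁻¹)
      (fun a ha => ?_) (fun a _ b _ e => ?_) (fun w hw => ?_) fun a _ => (hφ _ _).symm
    · simp only [Finset.mem_filter, Finset.mem_univ, true_and]
      exact ⟨by simpa using ha, conj_mem_cj.2 a.2⟩
    · exact Subtype.ext (mul_left_cancel (mul_right_cancel e))
    · simp only [Finset.mem_filter, Finset.mem_univ, true_and] at hw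
      refine ⟨⟨(⟨x, comm_le hx⟩ : ↥(A ⊔ B))⁻¹ * w * ⟨x, comm_le hx⟩, mem_cj.1 hw.2⟩, ?_, by group⟩
      simp only [Finset.mem_erase, Finset.mem_univ, and_true]
      refine fun e => hw.1 ?_
      simpa [mul_assoc, inv_mul_eq_one] using congrArg Subtype.val e
  · intro C hC E hE hCE
    simp only [Set.Finite.coe_toFinset, Set.mem_ofPred_eq] at hC hE
    refine Finset.disjoint_filter.2 fun w _ h1 h2 => h1.1 (Subtype.ext ?_)
    exact mem_bot.1 (h.inf hC.1 hE.1 hCE ▸ ⟨h1.2, h2.2⟩)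

omit [Finite G] in
theorem ps_sub (hA : A ≤ X) (χ : G → ℂ) (w : X) : ps (A.subgroupOf X) (fun x => χ x) w = ps A χ w := by
  rw [ps, ps, Nat.card_congr (subgroupOfEquivOfLe hA).toEquiv]
  congr 2
  exact finsum_mem_eq_of_bijOn Subtype.val ⟨fun _ h => h, Subtype.val_injective.injOn,
    fun a h => ⟨⟨a, hA h⟩, h, rfl⟩⟩ fun _ _ => rfl

end Bdl

open Bdl in
theorem FS.bdl (h : FS p q k D) (hA : A ∈ D) (hB : B ∈ D) (hne : A ≠ B) (hS : Sol q D (A ⊔ B))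
    (hs : k = s ^ 2) {χ : G → ℂ} (hχ : IsCharacter G χ) :
    ∑ᶠ w ∈ Wt D (A ⊔ B), ps A χ w ≤ ((p : ℝ) - 1) * s * ps A χ 1 := by
  classical
  have := Fintype.ofFinite ↥(A ⊔ B)
  have k := (dt h hA hB hne hS hs).main
    (W := Finset.univ.filter fun w : ↥(A ⊔ B) => w.1 ∈ Wt D (A ⊔ B)) (fun w hw g => ?_)
    (fun φ hφ => by rw [sum_line h hA hB hne hS hφ, hs, Nat.cast_pow]) (hχ.res _)
  · simp only [ps_sub le_sup_left] at k
    rw [Nat.card_congr (subgroupOfEquivOfLe le_sup_left).toEquiv, h.card A hA, ← finsum_mem_coe_finset] at k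
    refine le_of_eq_of_le (finsum_mem_eq_of_bijOn Subtype.val ⟨fun _ h => by simpa using h,
      Subtype.val_injective.injOn, fun w hw => ?_⟩ fun _ _ => rfl).symm k
    obtain ⟨-, C, -, h1, h2⟩ := id hw
    exact ⟨⟨w, h1 h2⟩, by simpa using hw, rfl⟩
  · simp only [Finset.mem_filter, Finset.mem_univ, true_and] at hw ⊢
    obtain ⟨h0, C, hC, h1, h2⟩ := hw
    exact ⟨by simpa using h0, cj g C, h.inv C hC g, cj_le_of_mem_of_le g.2 h1, conj_mem_cj.2 h2⟩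

end Cfsg.Lib.FSet
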