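import Cfsg.Agent.FSet.Defs
import Cfsg.Agent.Block.Ker
import Cfsg.Agent.Block.Klein
import Cfsg.Agent.Block.PrincSection
import Cfsg.Agent.Block.PrincNilp
import Cfsg.Agent.Char.Degree
import Cfsg.Agent.Char.Kernel

/-!
# The principal block count for a conjugation invariant set
-/

set_option autoImplicit false

open scoped commutatorElement ComplexConjugate

namespace Cfsg.Lib.FSet

open Cfsg Subgroup Cfsg.Lib.Trans

universe u

variable {G : Type u} [Group G] {t : G}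

variable [Finite G]

theorem ch_conv {W : Finset G} (hW : ∀ w ∈ W, ∀ g, g * w * g⁻¹ ∈ W) {χ : G → ℂ}
    (hχ : IsIrrCharacter G χ) (g : G) :
    ∑ w ∈ W, χ (w * g) = (∑ w ∈ W, χ w) / χ 1 * χ g := by
  classical
  haveI := Fintype.ofFinite G
  have ha : IsClassFunction G (fun x => if x ∈ W then (1 : ℂ) else 0) := by
    intro x h
    have : h * x * h⁻¹ ∈ W ↔ x ∈ W := by
      refine ⟨fun hx => ?_, fun hx => hW x hx h⟩
      have := hW _ hx h⁻¹
      simpa [mul_assoc] using this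
    simp only [this]
  have := Cfsg.Lib.Char.irr_sum_classFun_mul hχ _ ha g
  simpa [ite_mul, Finset.sum_ite_mem] using this

theorem ch_split {H : Type*} [Group H] (B : Finset (IrrCharacter H))
    (h1 : (⟨fun _ => 1, Cfsg.Lib.Char.isIrrCharacter_one⟩ : IrrCharacter H) ∈ B)
    (f e : IrrCharacter H → ℝ) (c b : ℝ)
    (hf : f ⟨fun _ => 1, Cfsg.Lib.Char.isIrrCharacter_one⟩ = c)
    (he : e ⟨fun _ => 1, Cfsg.Lib.Char.isIrrCharacter_one⟩ = 1)
    (h : ∀ χ ∈ B, ((χ : H → ℂ) ≠ fun _ => 1) → f χ ≤ b * e χ) :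
    ∑ χ ∈ B, f χ ≤ c + b * (∑ χ ∈ B, e χ - 1) := by
  classical
  rw [← Finset.add_sum_erase B f h1, ← Finset.add_sum_erase B e h1, hf, he,
    add_sub_cancel_left, Finset.mul_sum]
  refine add_le_add le_rfl (Finset.sum_le_sum fun χ hχ => ?_)
  rw [Finset.mem_erase] at hχ
  exact h χ hχ.2 fun h' => hχ.1 (Subtype.ext h')

theorem ch {W Wg : Set G} {b : ℝ} (hW : ∀ w ∈ W, ∀ g, g * w * g⁻¹ ∈ W) (ht : orderOf t = 2)
    (hb : ∀ χ : IrrCharacter G, ((χ : G → ℂ) ≠ fun _ => 1) →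
      (∑ᶠ w ∈ W, (χ : G → ℂ) w).re ≤ b * ((χ : G → ℂ) 1).re)
    (hy : ∀ w ∈ W, ∃ y, y * t = t * y ∧ Odd (orderOf y) ∧ IsConj (w * t) (t * y))
    (hg : Wg ⊆ W) (hg' : ∀ w ∈ Wg, ∃ y ∈ Ot t, IsConj (w * t) (t * y)) :
    2 * (Wg.ncard : ℝ) ≤ W.ncard + b := by
  classical
  haveI : Fact (Nat.Prime 2) := ⟨Nat.prime_two⟩
  obtain ⟨M, hM⟩ := Cfsg.Lib.Block.Princ.exists_isPModular Nat.prime_two
  set H : Subgroup G := centralizer ({t} : Set G) with hH
  set B0 := Cfsg.Lib.Block.irrFin (principalBlock M G) with hB0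
  set b0 := Cfsg.Lib.Block.irrFin (principalBlock M H) with hb0
  have hB1 : (⟨fun _ => 1, Cfsg.Lib.Char.isIrrCharacter_one⟩ : IrrCharacter G) ∈ B0 :=
    Cfsg.Lib.Block.mem_irrFin.2 (Cfsg.Lib.Block.one_mem_principalBlock hM)
  have hb1 : (⟨fun _ => 1, Cfsg.Lib.Char.isIrrCharacter_one⟩ : IrrCharacter H) ∈ b0 :=
    Cfsg.Lib.Block.mem_irrFin.2 (Cfsg.Lib.Block.one_mem_principalBlock hM)
  have hsec : ∀ y : H, ¬ 2 ∣ orderOf y →
      ∑ χ ∈ B0, (χ : G → ℂ) (t * y) * conj ((χ : G → ℂ) t) =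
        ∑ ξ ∈ b0, (ξ : H → ℂ) y * conj ((ξ : H → ℂ) 1) := by
    intro y hy2
    have := Cfsg.Lib.Block.Princ.sum_mul_conj_section_princ hM (x := t) ⟨1, by simpa using ht⟩
      (y := y) (y' := 1) hy2 (by simp)
    simpa using this
  set d : ℝ := ∑ χ ∈ B0, Complex.normSq ((χ : G → ℂ) t) with hd
  have hd' : ∑ ξ ∈ b0, Complex.normSq ((ξ : H → ℂ) 1) = d := by
    have := congrArg Complex.re (hsec 1 (by simp))
    simp only [OneMemClass.coe_one, mul_one, Complex.mul_conj, Complex.re_sum,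
      Complex.ofReal_re] at this
    exact this.symm
  have hd1 : 1 < d := by
    by_contra hle
    have hz : ∀ χ ∈ B0, ((χ : G → ℂ) ≠ fun _ => 1) → (χ : G → ℂ) t = 0 := by
      intro χ hχ hne
      have hne' : χ ≠ ⟨fun _ => 1, Cfsg.Lib.Char.isIrrCharacter_one⟩ :=
        fun h => hne (by rw [h])
      have h2 := Finset.add_le_sum (f := fun χ : IrrCharacter G => Complex.normSq ((χ : G → ℂ) t))
        (fun χ _ => Complex.normSq_nonneg _) hχ hB1 hne'
      simp only [map_one] at h2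
      have h3 := Complex.normSq_nonneg ((χ : G → ℂ) t)
      exact Complex.normSq_eq_zero.1 (by linarith)
    have h0 := Cfsg.Lib.Block.Princ.sum_princ_mul_regular (G := G) hM (y := 1) (z := t)
      (by simp) (by rw [ht])
    rw [← hB0, Finset.sum_eq_single_of_mem _ hB1] at h0
    · simp at h0
    · intro χ hχ hne
      rw [hz χ hχ fun h => hne (Subtype.ext h)]
      simp
  have hfin : W.Finite := Set.toFinite W
  set Wf := hfin.toFinset with hWf
  have hWf' : ∀ w ∈ Wf, ∀ g, g * w * g⁻¹ ∈ Wf := fun w hw g =>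
    hfin.mem_toFinset.2 (hW w (hfin.mem_toFinset.1 hw) g)
  have hcard : (W.ncard : ℝ) = Wf.card := by rw [Set.ncard_eq_toFinset_card W hfin]
  set T : G → ℝ := fun w => (∑ χ ∈ B0, (χ : G → ℂ) (w * t) * conj ((χ : G → ℂ) t)).re with hT
  have hup : ∑ w ∈ Wf, T w ≤ W.ncard + b * (d - 1) := by
    have e1 : ∑ w ∈ Wf, T w =
        ∑ χ ∈ B0, ((∑ w ∈ Wf, (χ : G → ℂ) (w * t)) * conj ((χ : G → ℂ) t)).re := by
      simp only [hT, Complex.re_sum, Finset.sum_mul]
      exact Finset.sum_comm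
    rw [e1]
    refine ch_split B0 hB1 _ _ _ b ?_ (by simp) ?_
    · simp [hcard]
    · intro χ _ hne
      obtain ⟨n, hn0, hn⟩ := χ.2.exists_nat_degree_pos
      have h1 := hb χ hne
      rw [finsum_mem_eq_finite_toFinset_sum _ hfin, hn] at h1
      rw [ch_conv hWf' χ.2, mul_assoc, Complex.mul_conj, hn, Complex.re_mul_ofReal,
        Complex.div_natCast_re]
      refine mul_le_mul_of_nonneg_right ?_ (Complex.normSq_nonneg _)
      rw [div_le_iff₀ (by exact_mod_cast hn0)]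
      simpa using h1
  have hlo : ∀ w ∈ W, 1 - (d - 1) ≤ T w := by
    intro w hw
    obtain ⟨y, hy1, hy2, hy3⟩ := hy w hw
    have hyH : y ∈ H := mem_centralizer_singleton_iff.2 hy1
    have ho : ¬ 2 ∣ orderOf (⟨y, hyH⟩ : H) := by
      rw [← Subgroup.orderOf_coe]
      exact hy2.not_two_dvd_nat
    have e1 : T w = (∑ ξ ∈ b0, (ξ : H → ℂ) ⟨y, hyH⟩ * conj ((ξ : H → ℂ) 1)).re := by
      rw [← hsec _ ho]
      simp only [hT]
      congr 1
      exact Finset.sum_congr rfl fun χ _ => by rw [χ.2.isClassFunction.eq_of_isConj hy3]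
    have := ch_split b0 hb1 (fun ξ => -((ξ : H → ℂ) ⟨y, hyH⟩ * conj ((ξ : H → ℂ) 1)).re)
      (fun ξ => Complex.normSq ((ξ : H → ℂ) 1)) (-1) 1 (by simp) (by simp) (by
        intro ξ _ _
        obtain ⟨n, _, hn⟩ := ξ.2.exists_nat_degree_pos
        have h1 := ξ.2.isCharacter.norm_le_re ⟨y, hyH⟩
        have h2 := Complex.abs_re_le_norm ((ξ : H → ℂ) ⟨y, hyH⟩)
        have h3 := neg_abs_le ((ξ : H → ℂ) ⟨y, hyH⟩).re
        rw [hn] at h1 ⊢
        simp only [Complex.natCast_re] at h1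
        simp only [map_natCast, Complex.mul_re, Complex.natCast_re, Complex.natCast_im, mul_zero,
          sub_zero, Complex.normSq_natCast, one_mul]
        have h4 : (0 : ℝ) ≤ n := Nat.cast_nonneg n
        nlinarith)
    rw [Finset.sum_neg_distrib, hd', ← Complex.re_sum, ← e1] at this
    linarith
  have hgd : ∀ w ∈ Wg, T w = d := by
    intro w hw
    obtain ⟨y, ⟨y', hy', rfl⟩, hy3⟩ := hg' w hw
    have ho : ¬ 2 ∣ orderOf y' := Cfsg.Lib.Block.Princ.not_dvd_orderOf_of_mem_pPrimeCore hy'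
    have e1 : T w = (∑ ξ ∈ b0, (ξ : H → ℂ) y' * conj ((ξ : H → ℂ) 1)).re := by
      rw [← hsec _ ho]
      simp only [hT]
      congr 1
      exact Finset.sum_congr rfl fun χ _ => by
        rw [χ.2.isClassFunction.eq_of_isConj hy3]; rfl
    rw [e1, ← hd', Complex.re_sum]
    refine Finset.sum_congr rfl fun ξ hξ => ?_
    rw [Cfsg.Lib.Char.apply_of_mem_charKer
      (Cfsg.Lib.Block.pPrimeCore_le_charKer hM (Cfsg.Lib.Block.mem_irrFin.1 hξ) hy'),
      Complex.mul_conj, Complex.ofReal_re]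
  have hsum : ∑ w ∈ Wf, ((1 - (d - 1)) + if w ∈ Wg then 2 * (d - 1) else 0) ≤ ∑ w ∈ Wf, T w := by
    refine Finset.sum_le_sum fun w hw => ?_
    split_ifs with h
    · rw [hgd w h]; linarith
    · rw [add_zero]; exact hlo w (hfin.mem_toFinset.1 hw)
  have hc2 : ((Wf.filter (· ∈ Wg)).card : ℝ) = Wg.ncard := by
    rw [← Set.ncard_coe_finset]
    congr 2
    ext w
    simp only [Finset.coe_filter, Set.mem_setOf_eq, hWf, Set.Finite.mem_toFinset]
    exact ⟨fun h => h.2, fun h => ⟨hg h, h⟩⟩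
  rw [Finset.sum_add_distrib, ← Finset.sum_filter, Finset.sum_const, Finset.sum_const,
    nsmul_eq_mul, nsmul_eq_mul, hc2, ← hcard] at hsum
  have hpos : 0 < d - 1 := by linarith
  have : (2 * (Wg.ncard : ℝ)) * (d - 1) ≤ (W.ncard + b) * (d - 1) := by nlinarith
  exact le_of_mul_le_mul_right this hpos

end Cfsg.Lib.FSet
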