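import Cfsg.Agent.FSet.Cnt
import Cfsg.Agent.FSet.Bdl
import Cfsg.Agent.FSet.Ch

/-!
# The bound for the central characters on the union of the points
-/

set_option autoImplicit false

open scoped commutatorElement ComplexConjugate

namespace Cfsg.Lib.FSet

open Cfsg Subgroup Cfsg.Lib.Trans

universe u

variable {G : Type u} [Group G] {p q k s : ℕ} {D : Set (Subgroup G)} {A B X Y X' : Subgroup G}
  {t g z : G}

variable [Finite G]

theorem bd_ps (A : Subgroup G) (χ : G → ℂ) (g : G) :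
    ps A χ g = ((Nat.card A : ℂ) * χ g -
      ∑ y ∈ (Set.toFinite (A : Set G)).toFinset, χ (g * y)).re := by
  rw [ps, finsum_mem_eq_finite_toFinset_sum _ (Set.toFinite _)]

theorem bd_card (A : Subgroup G) : (Set.toFinite (A : Set G)).toFinset.card = Nat.card A := by
  rw [← Set.ncard_eq_toFinset_card _ (Set.toFinite _)]
  rfl

theorem bd_shift (A : Subgroup G) (χ : G → ℂ) {a : G} (ha : a ∈ A) :
    ∑ y ∈ (Set.toFinite (A : Set G)).toFinset, χ (a * y) =
      ∑ y ∈ (Set.toFinite (A : Set G)).toFinset, χ y := by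
  refine Finset.sum_nbij' (fun y => a * y) (fun y => a⁻¹ * y) ?_ ?_ ?_ ?_ ?_
  · intro y hy
    simp only [Set.Finite.mem_toFinset, SetLike.mem_coe] at hy ⊢
    exact A.mul_mem ha hy
  · intro y hy
    simp only [Set.Finite.mem_toFinset, SetLike.mem_coe] at hy ⊢
    exact A.mul_mem (A.inv_mem ha) hy
  · intro y _; simp
  · intro y _; simp
  · intro y _; rfl

theorem bd_im (A : Subgroup G) {χ : G → ℂ} (hχ : IsCharacter G χ) :
    (∑ y ∈ (Set.toFinite (A : Set G)).toFinset, χ y).im = 0 := by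
  rw [← Complex.conj_eq_iff_im, map_sum]
  refine Finset.sum_nbij' (fun y => y⁻¹) (fun y => y⁻¹) ?_ ?_ ?_ ?_ ?_
  · intro y hy
    simp only [Set.Finite.mem_toFinset, SetLike.mem_coe] at hy ⊢
    exact A.inv_mem hy
  · intro y hy
    simp only [Set.Finite.mem_toFinset, SetLike.mem_coe] at hy ⊢
    exact A.inv_mem hy
  · intro y _; simp
  · intro y _; simp
  · intro y _; exact (hχ.apply_inv y).symm

theorem bd_Wt (h : FS p q k D) (hA : A ∈ D) : Wt D A = (A : Set G) \ {1} := by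
  ext w
  constructor
  · rintro ⟨h1, C, _, hC, hw⟩
    exact ⟨hC hw, h1⟩
  · rintro ⟨hw, h1⟩
    exact ⟨h1, A, hA, le_rfl, hw⟩

theorem bd_sumA (h : FS p q k D) (hA : A ∈ D) (χ : G → ℂ) :
    ∑ᶠ w ∈ Wt D A, ps A χ w = -ps A χ 1 := by
  classical
  have e : Wt D A = ((Set.toFinite (A : Set G)).toFinset.erase 1 : Finset G) := by
    rw [bd_Wt h hA, Finset.coe_erase, Set.Finite.coe_toFinset]
  have h1 : (1 : G) ∈ (Set.toFinite (A : Set G)).toFinset := by
    simp only [Set.Finite.mem_toFinset, SetLike.mem_coe]; exact A.one_mem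
  rw [e, finsum_mem_coe_finset, eq_neg_iff_add_eq_zero, Finset.sum_erase_add _ _ h1]
  have : ∀ a ∈ (Set.toFinite (A : Set G)).toFinset, ps A χ a = ((Nat.card A : ℂ) * χ a -
      ∑ y ∈ (Set.toFinite (A : Set G)).toFinset, χ y).re := by
    intro a ha
    rw [bd_ps, bd_shift A χ (by simpa using ha)]
  rw [Finset.sum_congr rfl this, ← Complex.re_sum, Finset.sum_sub_distrib, ← Finset.mul_sum,
    Finset.sum_const, bd_card, nsmul_eq_mul, sub_self, Complex.zero_re]

theorem bd_pos (h : MC p q k D) (hA : A ∈ D) (χ : IrrCharacter G)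
    (h1 : (χ : G → ℂ) ≠ fun _ => 1) : 0 < ps A χ 1 := by
  have e : ps A χ 1 = ∑ y ∈ (Set.toFinite (A : Set G)).toFinset,
      (((χ : G → ℂ) 1).re - ((χ : G → ℂ) y).re) := by
    rw [bd_ps, Finset.sum_sub_distrib, Finset.sum_const, bd_card, Complex.sub_re, Complex.re_sum]
    simp
  rw [e]
  have hχ := χ.2.isCharacter
  refine Finset.sum_pos' (fun y _ => sub_nonneg.2 (hχ.re_le_re y)) ?_
  by_contra hc
  push Not at hc
  have hk : A ≤ Cfsg.Lib.Char.charKer (χ : G → ℂ) := by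
    intro y hy
    have := hc y (by simpa using hy)
    exact hχ.mem_charKer_iff.2 (hχ.eq_of_re_eq (le_antisymm (hχ.re_le_re y) (by linarith)))
  haveI := hχ.charKer_normal
  apply h1
  rw [← χ.2.charKer_eq_top_iff, eq_top_iff, ← h.gen]
  refine sSup_le fun C hC => ?_
  obtain ⟨g, rfl⟩ := h.toFS.tr hA hC
  exact (cj_mono g hk).trans (cj_eq_of_normal g _).le

theorem MC.bd (h : MC p q k D) (hA : A ∈ D) (hs : k = s ^ 2) (χ : IrrCharacter G)
    (h1 : (χ : G → ℂ) ≠ fun _ => 1) :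
    (∑ᶠ w ∈ Wt D ⊤, (χ : G → ℂ) w).re ≤
      ((Ln D A).ncard * (((p : ℝ) - 1) * s + 1)) * ((χ : G → ℂ) 1).re := by
  classical
  have hP := bd_pos h hA χ h1
  have hfin : (Wt D ⊤).Finite := Set.toFinite _
  have hW : ∀ w ∈ hfin.toFinset, ∀ g, g * w * g⁻¹ ∈ hfin.toFinset := by
    intro w hw g
    rw [Set.Finite.mem_toFinset] at hw ⊢
    obtain ⟨hw1, C, hC, -, hwC⟩ := hw
    refine ⟨fun h' => hw1 ?_, cj g C, h.inv C hC g, le_top, conj_mem_cj.2 hwC⟩
    simpa using h'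
  obtain ⟨n, hn0, hn⟩ := χ.2.exists_nat_degree_pos
  have hn0' : (0 : ℝ) < n := by exact_mod_cast hn0
  set om : ℂ := (∑ w ∈ hfin.toFinset, (χ : G → ℂ) w) / (χ : G → ℂ) 1 with hom
  have hconv : ∀ g, ∑ w ∈ hfin.toFinset, (χ : G → ℂ) (w * g) = om * (χ : G → ℂ) g :=
    fun g => ch_conv hW χ.2 g
  have hPc : (Nat.card A : ℂ) * (χ : G → ℂ) 1 -
      ∑ y ∈ (Set.toFinite (A : Set G)).toFinset, (χ : G → ℂ) y = (ps A χ 1 : ℝ) := by
    apply Complex.ext
    · rw [bd_ps]; simp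
    · rw [Complex.sub_im, bd_im A χ.2.isCharacter, hn]; simp
  have hsum : ∑ᶠ w ∈ Wt D ⊤, ps A χ w = om.re * ps A χ 1 := by
    rw [finsum_mem_eq_finite_toFinset_sum _ hfin, ← Complex.re_mul_ofReal, ← hPc]
    simp only [bd_ps]
    rw [← Complex.re_sum, Finset.sum_sub_distrib, ← Finset.mul_sum, Finset.sum_comm]
    congr 1
    have := hconv 1
    simp only [mul_one] at this
    rw [this, Finset.sum_congr rfl fun y _ => hconv y, ← Finset.mul_sum]
    ring
  have hL : (Ln D A).Finite := Set.toFinite _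
  have h2 := h.toFS.sum_W hA (ps A χ)
  rw [hsum, bd_sumA h.toFS hA, finsum_mem_eq_finite_toFinset_sum _ hL] at h2
  have h3 : ∑ L ∈ hL.toFinset, (∑ᶠ w ∈ Wt D L, ps A χ w - -ps A χ 1) ≤
      ∑ L ∈ hL.toFinset, (((p : ℝ) - 1) * s + 1) * ps A χ 1 := by
    refine Finset.sum_le_sum fun L hL' => ?_
    obtain ⟨B, hB, hne, rfl⟩ := hL.mem_toFinset.1 hL'
    have := h.toFS.bdl hA hB hne.symm (h.line hA hB hne.symm) hs χ.2.isCharacter
    linarith
  rw [Finset.sum_const, nsmul_eq_mul, ← Set.ncard_eq_toFinset_card _ hL] at h3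
  have h4 : om.re * ps A χ 1 ≤ ((Ln D A).ncard * (((p : ℝ) - 1) * s + 1)) * ps A χ 1 := by
    linarith
  have h5 := le_of_mul_le_mul_right h4 hP
  rw [hom, hn, Complex.div_natCast_re, div_le_iff₀ hn0'] at h5
  rw [finsum_mem_eq_finite_toFinset_sum _ hfin, hn, Complex.natCast_re]
  exact h5

end Cfsg.Lib.FSet
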