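import Cfsg.Agent.FSet.Defs
import Cfsg.Agent.Char.Degree
import Cfsg.Agent.Char.Kernel

/-!
# The character bound on one line, abstract form
-/

set_option autoImplicit false

namespace Cfsg.Lib.FSet.Bdl

open Cfsg Subgroup Cfsg.Lib.Char Finset
open scoped ComplexConjugate Classical

variable {F : Type*} [Group F] [Fintype F] {K Z A : Subgroup F} {φ : F → ℂ}

theorem sum_split {M : Type*} [AddCommMonoid M] (hc : IsComplement' K A) (f : F → M) :
    ∑ g, f g = ∑ a : A, ∑ x : K, f (x * a) := by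
  rw [← Function.Bijective.sum_comp hc f, Fintype.sum_prod_type_right]
  rfl

theorem norm_cen (hφ : IsIrrCharacter F φ) {z : F} (hz : z ∈ center F) (g : F) : ‖φ (z * g)‖ = ‖φ g‖ := by
  have h1 := hφ.apply_one_ne_zero
  obtain ⟨d, -, hd⟩ := hφ.exists_nat_degree_pos
  have h2 := irr_mul_center hφ hz z⁻¹
  rw [mul_inv_cancel, hφ.isCharacter.apply_inv] at h2
  have h3 := congrArg (‖·‖) h2
  have h4 : 0 < ‖φ 1‖ := norm_pos_iff.2 h1
  simp only [norm_mul, norm_div, RCLike.norm_conj] at h3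
  have h5 : ‖φ z‖ = ‖φ 1‖ := by
    field_simp at h3
    exact (pow_left_inj₀ (norm_nonneg _) (norm_nonneg _) two_ne_zero).1 h3.symm
  rw [irr_mul_center hφ hz, norm_mul, norm_div, h5, div_self h4.ne', one_mul]

theorem exists_sum (hφ : IsCharacter F φ) (A : Subgroup F) : ∃ m : ℕ, ∑ a : A, φ a = Nat.card A * m := by
  obtain ⟨m, hm⟩ := (hφ.res A).exists_nat_classInner isCharacter_one
  refine ⟨m, ?_⟩
  rw [← hm, card_mul_classInner]
  simp

theorem sum_erase {M : Type*} [AddCommGroup M] (f : F → M) :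
    ∑ a ∈ univ.erase (1 : A), f a = ∑ a : A, f a - f 1 := by
  rw [← add_sum_erase _ _ (mem_univ (1 : A))]
  simp

theorem card_erase : ((univ.erase (1 : A)).card : ℝ) = Nat.card A - 1 := by
  rw [card_erase_of_mem (mem_univ _), card_univ, Nat.card_eq_fintype_card, Nat.cast_sub Fintype.card_pos]
  simp

/-- the data of a line. -/
structure Dt (K Z A : Subgroup F) (s : ℕ) : Prop where
  nm : K.Normal
  cpl : IsComplement' K A
  le : Z ≤ K
  cen : Z ≤ center F
  card : Nat.card K = s ^ 2 * Nat.card Z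
  cam : ∀ x ∈ K, x ∉ Z → ∀ z ∈ Z, IsConj x (z * x)
  cos : ∀ a ∈ A, a ≠ 1 → ∀ x ∈ K, ∃ z ∈ Z, IsConj (x * a) (z * a)

variable {s d m : ℕ}

theorem Dt.third (h : Dt K Z A s) (hφ : IsIrrCharacter F φ) (hd : φ 1 = d) {z : F} (hz : z ∈ Z)
    (hz' : z ∉ charKer φ) : s ≤ d ∧ ∑ a ∈ univ.erase (1 : A), ‖φ a‖ ^ 2 ≤ Nat.card A - 1 := by
  have cf := hφ.isClassFunction
  have h0 : ∀ x ∈ K, x ∉ Z → φ x = 0 := fun x hx hx' => by
    by_contra h0
    have := cf.eq_of_isConj (h.cam x hx hx' z hz)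
    rw [irr_mul_center hφ (h.cen hz)] at this
    have h1 := hφ.apply_one_ne_zero
    refine hz' (hφ.mem_charKer_iff.2 ?_)
    field_simp at this
    exact this.symm
  have hK : (0 : ℝ) < Nat.card K := by exact_mod_cast Nat.card_pos
  have hZ : (0 : ℝ) < Nat.card Z := by exact_mod_cast Nat.card_pos
  have h1 : ∑ x : K, ‖φ x‖ ^ 2 = Nat.card Z * d ^ 2 := by
    have : ∀ x : K, ‖φ x‖ ^ 2 = if (x : F) ∈ Z then (d : ℝ) ^ 2 else 0 := fun x => by
      split_ifs with hx
      · have := norm_cen hφ (h.cen hx) 1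
        rw [mul_one, hd] at this
        simp [this]
      · simp [h0 x x.2 hx]
    simp only [this]
    rw [← sum_filter, sum_const, nsmul_eq_mul, ← Nat.card_congr (subgroupOfEquivOfLe h.le).toEquiv,
      Nat.card_eq_fintype_card, Fintype.card_subtype]
    rfl
  obtain ⟨n, hn⟩ := (hφ.isCharacter.res K).exists_nat_classInner (hφ.isCharacter.res K)
  have hn0 : n ≠ 0 := fun e => by
    rw [e, Nat.cast_zero, classInner_self_eq_zero] at hn
    exact hφ.apply_one_ne_zero (congrFun hn 1)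
  have hn1 : (1 : ℝ) ≤ n := by exact_mod_cast Nat.pos_of_ne_zero hn0
  rw [classInner_self_eq, h1, ← Complex.ofReal_natCast, Complex.ofReal_inj] at hn
  have h2 := hφ.classInner_self
  rw [classInner_self_eq, ← Complex.ofReal_one, Complex.ofReal_inj, sum_split h.cpl,
    ← add_sum_erase _ _ (mem_univ (1 : A)), ← h.cpl.card_mul_card] at h2
  have h3 : ∑ a ∈ univ.erase (1 : A), ∑ x : K, ‖φ (x * a)‖ ^ 2 =
      Nat.card K * ∑ a ∈ univ.erase (1 : A), ‖φ a‖ ^ 2 := by
    rw [mul_sum]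
    refine sum_congr rfl fun a ha => ?_
    have : ∀ x : K, ‖φ (x * a)‖ = ‖φ a‖ := fun x => by
      obtain ⟨y, hy, e⟩ := h.cos a a.2 (by simpa using ha) x x.2
      rw [cf.eq_of_isConj e, norm_cen hφ (h.cen hy)]
    simp [this]
  have hA : (0 : ℝ) < Nat.card A := by exact_mod_cast Nat.card_pos
  simp only [OneMemClass.coe_one, mul_one, h1, h3, Nat.cast_mul] at h2
  field_simp at hn h2
  refine ⟨?_, ?_⟩
  · have h4 : (d : ℝ) ^ 2 = s ^ 2 * n := by
      rw [h.card] at hn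
      push_cast at hn
      exact mul_left_cancel₀ hZ.ne' (by linarith)
    have h5 : (s : ℝ) ^ 2 ≤ d ^ 2 := by nlinarith [sq_nonneg (s : ℝ)]
    exact_mod_cast (pow_le_pow_iff_left₀ (Nat.cast_nonneg _) (Nat.cast_nonneg _) two_ne_zero).1 h5
  · rw [hn] at h2
    exact le_of_mul_le_mul_left (by nlinarith) hK

theorem Dt.core (h : Dt K Z A s) (hφ : IsIrrCharacter F φ) (hd : φ 1 = d)
    (hm : ∑ a : A, φ a = Nat.card A * m) :
    d = m ∨ (s : ℝ) * (Nat.card A * m - d) ≤ (Nat.card A - 1) * d := by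
  have cf := hφ.isClassFunction
  have := h.nm
  have hA : (1 : ℝ) ≤ Nat.card A := by exact_mod_cast Nat.card_pos
  have hA' := card_ne_zero A
  have hK := card_ne_zero K
  have p0 : (0 : ℝ) ≤ (Nat.card A - 1) * d := mul_nonneg (by linarith) (Nat.cast_nonneg _)
  by_cases h1 : K ≤ charKer φ
  · by_cases h2 : φ = fun _ => 1
    · left
      simp only [h2, sum_const, card_univ, nsmul_eq_mul, mul_one, ← Nat.card_eq_fintype_card] at hd hm
      have : (m : ℂ) = d := mul_left_cancel₀ hA' (by rw [← hm, ← hd, mul_one])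
      exact_mod_cast this.symm
    · have h3 := hφ.classInner_of_ne isIrrCharacter_one h2
      rw [classInner_one_right, sum_split h.cpl] at h3
      have h4 : ∀ (a : A) (x : K), φ (x * a) = φ a := fun a x => apply_mul_of_mem_charKer (h1 x.2) _
      simp only [h4, sum_const, card_univ, nsmul_eq_mul, ← Nat.card_eq_fintype_card, ← mul_sum, hm] at h3
      have h5 : m = 0 := by simpa [card_ne_zero F, hK, hA'] using h3
      right
      rw [h5, Nat.cast_zero]
      nlinarith [mul_nonneg (Nat.cast_nonneg (α := ℝ) s) (Nat.cast_nonneg (α := ℝ) d)]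
  right
  have hc : (Nat.card A * m - d : ℝ) = ∑ a ∈ univ.erase (1 : A), (φ a).re := by
    rw [← Complex.re_sum, sum_erase, hm, hd]
    simp
  by_cases h2 : Z ≤ charKer φ
  · have : ∀ a ∈ univ.erase (1 : A), (φ a).re = 0 := fun a ha => by
      have h3 := hφ.sum_coset_eq_zero K h1 a
      have h4 : ∀ x : K, φ (a * x) = φ a := fun x => by
        obtain ⟨y, hy, e⟩ := h.cos a a.2 (by simpa using ha) x x.2
        rw [cf.apply_mul_comm, cf.eq_of_isConj e, apply_mul_of_mem_charKer (h2 hy)]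
      simp only [h4, sum_const, card_univ, nsmul_eq_mul, ← Nat.card_eq_fintype_card] at h3
      rw [(mul_eq_zero.1 h3).resolve_left hK, Complex.zero_re]
    rw [hc, sum_eq_zero this, mul_zero]
    exact p0
  obtain ⟨z, hz, hz'⟩ := SetLike.not_le_iff_exists.1 h2
  obtain ⟨h3, h4⟩ := h.third hφ hd hz hz'
  have h5 : ∑ a ∈ univ.erase (1 : A), (φ a).re ≤ ∑ a ∈ univ.erase (1 : A), (1 + ‖φ a‖ ^ 2) / 2 :=
    sum_le_sum fun a _ => by nlinarith [Complex.re_le_norm (φ a), sq_nonneg (‖φ a‖ - 1)]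
  rw [← sum_div, sum_add_distrib, sum_const, nsmul_eq_mul, card_erase, ← hc] at h5
  have h6 : (s : ℝ) ≤ d := by exact_mod_cast h3
  calc (s : ℝ) * (Nat.card A * m - d) ≤ s * (Nat.card A - 1) :=
        mul_le_mul_of_nonneg_left (by linarith) (Nat.cast_nonneg _)
    _ ≤ _ := by rw [mul_comm]; exact mul_le_mul_of_nonneg_left h6 (by linarith)

theorem ps_eq (A : Subgroup F) (χ : F → ℂ) (g : F) :
    ps A χ g = (Nat.card A * χ g - ∑ y : A, χ (g * y)).re := by
  rw [ps, ← finsum_set_coe_eq_finsum_mem, finsum_eq_sum_of_fintype]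
  rfl

theorem conv (hφ : IsIrrCharacter F φ) {W : Finset F} (hW : ∀ w ∈ W, ∀ g, g * w * g⁻¹ ∈ W) (y : F) :
    ∑ w ∈ W, φ (w * y) = (∑ w ∈ W, φ w) / φ 1 * φ y := by
  have := irr_sum_classFun_mul hφ (fun g => if g ∈ W then 1 else 0) (fun g x => by
    refine if_congr ⟨fun hh => ?_, fun hh => hW g hh x⟩ rfl rfl
    simpa [mul_assoc] using hW _ hh x⁻¹) y
  simpa using this

theorem Dt.main (h : Dt K Z A s) {W : Finset F} (hW : ∀ w ∈ W, ∀ g, g * w * g⁻¹ ∈ W)
    (hs : ∀ φ, IsClassFunction F φ → ∑ w ∈ W, φ w = s ^ 2 * (∑ a : A, φ a - φ 1)) {χ : F → ℂ}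
    (hχ : IsCharacter F χ) : ∑ w ∈ W, ps A χ w ≤ ((Nat.card A : ℝ) - 1) * s * ps A χ 1 := by
  refine hχ.induction_on (P := fun χ => ∑ w ∈ W, ps A χ w ≤ ((Nat.card A : ℝ) - 1) * s * ps A χ 1)
    (by simp [ps_eq]) fun φ θ hφ _ ih => ?_
  have add : ∀ g, ps A (φ + θ) g = ps A φ g + ps A θ g := fun g => by
    simp only [ps_eq, Pi.add_apply, sum_add_distrib, ← Complex.add_re]
    congr 1
    ring
  simp only [add, sum_add_distrib, mul_add]
  refine add_le_add ?_ ih
  obtain ⟨d, hd0, hd⟩ := hφ.exists_nat_degree_pos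
  obtain ⟨m, hm⟩ := exists_sum hφ.isCharacter A
  have hd1 : (0 : ℝ) < d := by exact_mod_cast hd0
  have hd2 : (d : ℂ) ≠ 0 := by exact_mod_cast hd0.ne'
  have e1 : ps A φ 1 = Nat.card A * (d - m) := by
    simp only [ps_eq, one_mul, hm, hd]
    simp [mul_sub]
  have e2 : ∑ w ∈ W, ps A φ w = s * (s * (Nat.card A * m - d) / d) * (Nat.card A * (d - m)) := by
    simp only [ps_eq, ← Complex.re_sum, sum_sub_distrib, ← mul_sum]
    rw [sum_comm]
    simp only [conv hφ hW, ← mul_sum, hs φ hφ.isClassFunction, hm, hd]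
    rw [← Complex.ofReal_re (s * _ * _)]
    congr 1
    push_cast
    field_simp
  have e3 : 0 ≤ ps A φ 1 := by
    rw [ps_eq, Complex.sub_re, Complex.re_sum, sub_nonneg]
    refine (sum_le_sum fun a _ => hφ.isCharacter.re_le_re _).trans ?_
    simp
  rw [e1] at e3
  rw [e1, e2]
  rcases h.core hφ hd hm with e | e
  · simp [e]
  · refine mul_le_mul_of_nonneg_right ?_ e3
    rw [mul_comm _ (s : ℝ)]
    exact mul_le_mul_of_nonneg_left ((div_le_iff₀ hd1).2 e) (Nat.cast_nonneg _)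

end Cfsg.Lib.FSet.Bdl
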