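import Cfsg.Agent.FSet.Basic
import Cfsg.Agent.Trans.BlkML

/-!
# Blocks
-/

set_option autoImplicit false
set_option linter.unusedSectionVars false
set_option linter.unusedVariables false

open scoped commutatorElement

namespace Cfsg.Lib.FSet

open Cfsg Subgroup Cfsg.Lib.Trans

local notation "𝐂" A:max => Subgroup.centralizer (SetLike.coe A)
local notation "𝐍" A:max => Subgroup.normalizer (SetLike.coe A)

universe u

variable {G : Type u} [Group G] {p q k s : ℕ} {D : Set (Subgroup G)} {A B X Y X' : Subgroup G}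
  {t g z : G}

/-- the elements of `Q` that are fixed modulo `C` by the members of `R`. -/
def stb (Q C : Subgroup G) (h : Q ≤ 𝐍 C) (R : Set G) : Subgroup G where
  carrier := {x | x ∈ Q ∧ ∀ g ∈ R, x⁻¹ * (g * x * g⁻¹) ∈ C}
  one_mem' := ⟨one_mem _, fun g _ => by simp⟩
  mul_mem' := fun {x y} hx hy => ⟨mul_mem hx.1 hy.1, fun g hg => by
    convert mul_mem (mem_normalizer_conj' (h hy.1) (hx.2 g hg)) (hy.2 g hg) using 1; group⟩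
  inv_mem' := fun {x} hx => ⟨inv_mem hx.1, fun g hg => by
    convert mem_normalizer_conj (h hx.1) (inv_mem (hx.2 g hg)) using 1; group⟩

theorem mem_stb {Q C : Subgroup G} {h : Q ≤ 𝐍 C} {R : Set G} {x : G} :
    x ∈ stb Q C h R ↔ x ∈ Q ∧ ∀ g ∈ R, x⁻¹ * (g * x * g⁻¹) ∈ C := Iff.rfl

theorem stb_le {Q C : Subgroup G} {h : Q ≤ 𝐍 C} {R : Set G} : stb Q C h R ≤ Q := fun _ hx => hx.1

theorem norm_of_cj_eq {x y : G} (e : cj x A = cj y A) : x⁻¹ * y ∈ 𝐍 A :=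
  cj_eq_self_iff.1 (by rw [cj_mul, ← e, cj_inv_cj])

theorem Sol.le_norm (hX : A ≤ X) : A ≤ 𝐍 ⁅X, X⁆ := hX.trans (le_normalizer.trans norm_comm)

theorem Sol.cm (hS : Sol q D X) {x y : G} (hx : x ∈ ⁅X, X⁆) (hy : y ∈ ⁅X, X⁆) : ⁅x, y⁆ ∈ Zs X :=
  hS.cl2.le (commutator_mem_commutator hx hy)

theorem Sol.bil (hS : Sol q D X) {u x : G} (hu : u ∈ ⁅X, X⁆) (hx : x ∈ ⁅X, X⁆)
    (h1 : x⁻¹ * (g * x * g⁻¹) ∈ ⁅X, X⁆) (h2 : u⁻¹ * (g * u * g⁻¹) ∈ Zs X) :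
    g * ⁅u, x⁆ * g⁻¹ = ⁅u, x⁆ * ⁅u, x⁻¹ * (g * x * g⁻¹)⁆ := by
  have e1 := Zs_cent h2 _ (comm_le (mul_mem hx h1))
  have e2 := Zs_cent (hS.cm hu h1) _ (comm_le hx)
  rw [conjugate_commutatorElement, ← mul_inv_cancel_left u (g * u * g⁻¹)]
  conv_lhs => rw [← mul_inv_cancel_left x (g * x * g⁻¹)]
  generalize u⁻¹ * (g * u * g⁻¹) = z at e1
  generalize x⁻¹ * (g * x * g⁻¹) = v at e1 e2
  rw [← mul_inv_eq_iff_eq_mul.2 e2, commutatorElement_def (u * z), mul_assoc u z, ← e1]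
  simp only [commutatorElement_def]
  group

variable [Finite G]

theorem norm_stb {Q C : Subgroup G} {h : Q ≤ 𝐍 C} {R : Set G} (h1 : A ≤ 𝐍 Q) (h2 : A ≤ 𝐍 C)
    (h3 : ∀ g ∈ R, g ∈ 𝐂 A) : A ≤ 𝐍 (stb Q C h R) := fun a ha =>
  mem_normalizer_of_cj_le (cj_le_iff.2 fun x hx => ⟨mem_normalizer_conj (h1 ha) hx.1, fun g hg => by
    convert mem_normalizer_conj (h2 ha) (hx.2 g hg) using 1
    rw [show (a * x * a⁻¹)⁻¹ * (g * (a * x * a⁻¹) * g⁻¹) =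
      a * x⁻¹ * (a⁻¹ * (g * a)) * x * (g * a)⁻¹ by group, ← h3 g hg a ha]
    conv_rhs => rw [show a * (x⁻¹ * (g * x * g⁻¹)) * a⁻¹ = a * x⁻¹ * g * x * (a * g)⁻¹ by group]
    group⟩)

theorem exists_stb (hq : q.Prime) {Q C R : Subgroup G} (h : Q ≤ 𝐍 C) (hQ : IsPGroup q Q)
    (hR : IsPGroup q R) (hn : R ≤ 𝐍 Q) (h1 : ¬ Q ≤ C) : ∃ x ∈ stb Q C h R, x ∉ C := by
  have := Fact.mk hq
  obtain ⟨x, hx, nx, e⟩ := BB.ML.exists_comm_mem' hQ hR hn h1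
  exact ⟨x, ⟨hx, fun g hg => by
    convert mem_normalizer_conj' (h hx) (e g hg) using 1; rw [commutatorElement_def]; group⟩, nx⟩

theorem Sol.norm_of (hS : Sol q D X) (h1 : Zs X ≤ Y) (h2 : Y ≤ ⁅X, X⁆) : ⁅X, X⁆ ≤ 𝐍 Y :=
  fun y hy => mem_normalizer_of_cj_le (cj_le_iff.2 fun x hx => by
    convert mul_mem (h1 (hS.cm hy (h2 hx))) hx using 1; rw [commutatorElement_def]; group)

theorem Sol.mem_Zs (hS : Sol q D X) (h : FS p q k D) (hA : A ∈ D) (hX : A ≤ X) {y : G}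
    (hy : y ∈ ⁅X, X⁆) (hn : y ∈ 𝐍 A) : y ∈ Zs X :=
  (hS.Zs_eq h hA hX).le ⟨hy, h.cent_of_q hA hS.pQ (Sol.le_norm hX) hy hn⟩

theorem Sol.ab (hS : Sol q D X) (h : FS p q k D) (hA : A ∈ D) (hX : A ≤ X) (h1 : Y ≤ ⁅X, X⁆)
    (h2 : A ≤ 𝐍 Y) {u : G} (hu : u ∈ Y) (hc : u ∈ 𝐂 Y) : u ∈ Zs X :=
  (hS.Zs_eq h hA hX).le ⟨h1 hu, h.ab (Y := Y ⊓ 𝐂 Y) hA (hS.pQ.to_le (inf_le_left.trans h1))
    ((le_inf h2 (h2.trans (normalizer_le_normalizer_centralizer Y))).trans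
      inf_normalizer_le_normalizer_inf) (fun _ a _ b => a.2 _ b.1) ⟨hu, hc⟩⟩

theorem MC.Zs_mono (h : MC p q k D) (h1 : X ≤ Y) (h2 : Y ≠ ⊤) (hX : sp D X = X)
    (hY : sp D Y = Y) : Zs X ≤ Zs Y := by
  by_cases e : ∃ A ∈ D, A ≤ X
  · obtain ⟨A, hA, hX⟩ := e
    exact fun z hz => ((h.sol' h2 hY).Zs_eq h.toFS hA (hX.trans h1)).le
      ⟨commutator_mono h1 h1 hz.1, fun a ha => hz.2 a (hX ha)⟩
  · exact (Zs_le.trans (comm_le.trans (hX.ge.trans (sp_le_iff.2 fun A hA k =>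
      (e ⟨A, hA, k⟩).elim)))).trans bot_le

theorem MC.blk_Gm (h : MC p q k D) (h1 : X ≠ ⊤) (hX : sp D X = X) (hz : z ∈ Zs X)
    (hz' : z ∉ center G) : Blk D (Gm D z) ∧ X ≤ Gm D z ∧ z ∈ Zs (Gm D z) := by
  have ne : Gm D z ≠ ⊤ := fun e => cent_ne_top hz' (eq_top_iff.2 (e.ge.trans Gm_le))
  have le : X ≤ Gm D z := hX.ge.trans (sp_mono (le_cent_iff.2 (Zs_cent hz)))
  have m := h.Zs_mono le ne hX sp_Gm hz
  exact ⟨⟨ne, sp_Gm, fun e => hz' (e m), fun Y hY k => sp_sp.ge.trans (sp_mono (le_cent_iff.2 (Zs_cent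
    (h.Zs_mono (sp_Gm.ge.trans (sp_mono k)) (fun e => hY (eq_top_iff.2 (e.ge.trans sp_le)))
      sp_Gm sp_sp m))))⟩, le, m⟩

theorem MC.eq_Gm (h : MC p q k D) (b : Blk D X) (hz : z ∈ Zs X) (hz' : z ∉ center G) :
    Gm D z = X :=
  have k := h.blk_Gm b.ne b.gen hz hz'
  le_antisymm (sp_Gm.ge.trans (b.max _ k.1.ne k.2.1)) k.2.1

theorem MC.blk_uniq (h : MC p q k D) (hX : sp D X = X) (hc : ¬ Zs X ≤ center G)
    (b : Blk D Y) (b' : Blk D X') (h1 : X ≤ Y) (h2 : X ≤ X') : Y = X' := by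
  obtain ⟨z, hz, hz'⟩ := SetLike.not_le_iff_exists.1 hc
  rw [← h.eq_Gm b (h.Zs_mono h1 b.ne hX b.gen hz) hz', h.eq_Gm b' (h.Zs_mono h2 b'.ne hX b'.gen hz) hz']

theorem MC.blk_cj (h : MC p q k D) (b : Blk D X) (g : G) : Blk D (cj g X) :=
  ⟨fun e => b.ne (cj_eq_top.1 e), by rw [← h.cj_sp, b.gen],
    fun e => b.nc (cj_le_cj.1 ((cj_Zs g X).le.trans (e.trans (cj_eq_of_normal g _).ge))),
    fun Y hY k => cj_inv_le_iff_le_cj.1 ((h.cj_sp _ _).le.trans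
      (b.max _ (fun e => hY (cj_eq_top.1 e)) (cj_le_iff_le_cj_inv.1 k)))⟩

theorem MC.blk_sol (h : MC p q k D) (b : Blk D X) : Sol q D X := h.sol' b.ne b.gen

theorem Sol.comm_mem (hS : Sol q D X) (h : FS p q k D) (hA : A ∈ D) (hX : A ≤ X)
    (h1 : g ∈ 𝐍 X) (h2 : g ∈ 𝐂 A) {x : G} (hx : x ∈ X) : g * x * g⁻¹ * x⁻¹ ∈ ⁅X, X⁆ := by
  obtain ⟨y, hy, a, ha, rfl⟩ := (Solv.mem_sup_of_le_normalizer (Sol.le_norm hX)).1 (hS.sup A hA hX hx)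
  convert mul_mem (mem_normalizer_conj (norm_comm h1) hy) (inv_mem hy) using 1
  rw [← conj_mul, conj_eq_of_mem_centralizer h2 ha]
  group

theorem Sol.fix (hS : Sol q D X) (h : FS p q k D) (hA : A ∈ D) (hX : A ≤ X)
    (h1 : g ∈ 𝐍 X) (h2 : g ∈ 𝐂 A) {x : G} (hx : x ∈ ⁅X, X⁆) :
    x⁻¹ * (g * x * g⁻¹) ∈ Zs X ↔ cj x A ≤ centralizer {g} := by
  have e : ∀ a ∈ A, a * (x⁻¹ * (g * x * g⁻¹)) = x⁻¹ * (g * x * g⁻¹) * a ↔
      x * a * x⁻¹ * g = g * (x * a * x⁻¹) := fun a ha => by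
    rw [mul_assoc x⁻¹, mul_assoc _ g⁻¹, ← inv_mem h2 a ha, ← mul_left_inj (g * x⁻¹), ← mul_right_inj x]
    simp only [mul_assoc, inv_mul_cancel_left, mul_inv_cancel_left, mul_inv_cancel, mul_one]
  rw [← hS.Zs_eq h hA hX, cj_le_iff]
  exact ⟨fun k a ha => mem_centralizer_singleton_iff.2 ((e a ha).1 (k.2 a ha)),
    fun k => ⟨⁅X, X⁆.mul_mem (⁅X, X⁆.inv_mem hx) (mem_normalizer_conj (norm_comm h1) hx),
      fun a ha => (e a ha).2 (mem_centralizer_singleton_iff.1 (k a ha))⟩⟩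

theorem Sol.split (hS : Sol q D X) (h : FS p q k D) (hA : A ∈ D) (hX : A ≤ X) (h1 : Zs X ≤ Y)
    (h2 : Y ≤ ⁅X, X⁆) (h3 : A ≤ 𝐍 Y) :
    sp D (Y ⊔ A) ≤ X ∧ Y = ⁅sp D (Y ⊔ A), sp D (Y ⊔ A)⁆ ⊔ Zs X := by
  refine ⟨sp_le.trans (sup_le (h2.trans comm_le) hX), le_antisymm (fun y hy => ?_) (sup_le
    ((commutator_mono le_sup_right le_sup_right).trans (h.comm_le_of hA h3 sp_le)) h1)⟩
  have hB := h.inv A hA y
  by_cases e : A = cj y A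
  · exact mem_sup_right (hS.mem_Zs h hA hX (h2 hy) (cj_eq_self_iff.1 e.symm))
  obtain ⟨x, hx, e'⟩ := h.tr_of hA hB (h.pK A hA _ hB e) (Sol.le_norm le_sup_left) (h.sup A hA _ hB e)
  have l : A ⊔ cj y A ≤ sp D (Y ⊔ A) := sup_le (le_sp hA le_sup_right)
    (le_sp hB (cj_le_of_mem_of_le (mem_sup_left hy) le_sup_right))
  have l' := l.trans (sp_le.trans (sup_le (h2.trans comm_le) hX))
  rw [← mul_inv_cancel_left x y]
  exact mul_mem_sup (commutator_mono l l hx) (hS.mem_Zs h hA hX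
    (mul_mem (inv_mem (commutator_mono l' l' hx)) (h2 hy)) (norm_of_cj_eq e'))

theorem Sol.lx (hS : Sol q D X) (h : FS p q k D) (hA : A ∈ D) (hX : A ≤ X)
    (h1 : g ∈ 𝐍 X) (h2 : g ∈ 𝐂 A) (h3 : IsPGroup q (zpowers g)) (h4 : g ∈ 𝐂 (Zs X)) :
    g ∈ 𝐂 X := by
  have n : ⁅X, X⁆ ≤ 𝐍 (Zs X) := comm_le.trans (le_normalizer.trans norm_Zs)
  have nA : A ≤ 𝐍 (stb _ _ n {g}) := norm_stb (Sol.le_norm hX)
    (hX.trans (le_normalizer.trans norm_Zs)) fun _ e => e ▸ h2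
  by_cases e : ⁅X, X⁆ ≤ stb _ _ n {g}
  · refine le_cent_iff.1 (hS.gen.ge.trans (sp_le_iff.2 fun B hB k => ?_))
    obtain ⟨x, hx, rfl⟩ := hS.tr A hA B hB hX k
    exact (hS.fix h hA hX h1 h2 hx).1 ((e hx).2 g rfl)
  obtain ⟨x, hx, nx⟩ := exists_stb h.qp (hS.norm_of (Y := stb _ _ n {g}) (fun z hz => ⟨Zs_le hz,
    fun _ e => by rw [e, conj_eq_of_mem_centralizer h4 hz, inv_mul_cancel]; exact one_mem _⟩) stb_le)
    hS.pQ h3 (zpowers_le.2 (norm_comm h1)) e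
  have hu := hx.2 g (mem_zpowers g)
  refine (nx ⟨hx.1, fun _ e => e ▸ hS.ab h hA hX stb_le nA hu fun u k => ?_⟩).elim
  have := hS.bil k.1 hx.1 hu.1 (k.2 g rfl)
  rw [conj_eq_of_mem_centralizer h4 (hS.cm k.1 hx.1), left_eq_mul] at this
  exact commutatorElement_eq_one_iff_mul_comm.1 this

end Cfsg.Lib.FSet
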