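import Cfsg.Agent.FSet.Bad
import Cfsg.Agent.FSet.Adj
import Cfsg.Agent.FSet.Blk

/-!
# Sets of subgroups of order `p`: counting the good points
-/

set_option autoImplicit false

open scoped commutatorElement

namespace Cfsg.Lib.FSet

open Cfsg Subgroup Cfsg.Lib.Trans

local notation "𝐂" A:max => Subgroup.centralizer (SetLike.coe A)
local notation "𝐍" A:max => Subgroup.normalizer (SetLike.coe A)

universe u

variable {G : Type u} [Group G] {p q k s : ℕ} {D : Set (Subgroup G)} {A B X Y X' : Subgroup G}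
  {t g z : G}

variable [Finite G]

namespace Cmp

theorem uniq (h : MC p q k D) (ht : Iv D t) (hX : X ∈ D) (hb : ¬ Good t X) (b : Blk D Y)
    (b' : Blk D X') (h1 : Gm D t ≤ Y) (h2 : Gm D t ≤ X') (h3 : X ≤ Y) (h4 : X ≤ X') : Y = X' := by
  obtain ⟨-, -, -, hc, -⟩ := h.bad ht hX hb
  exact h.blk_uniq (sp_sup sp_Gm (sp_pt hX)) hc b b' (sup_le h1 h3) (sup_le h2 h4)

theorem key (h : MC p q k D) (ht : Iv D t) (b : Nb q D t Y) (hz : z ∈ Zs Y)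
    (hi : t * z * t⁻¹ = z⁻¹) (hn : z ∉ pCore q G) {m : ℤ} (hm : ¬ (q : ℤ) ∣ m) (hX : X ∈ D)
    (hb : ¬ Good t X) (hXY : ¬ X ≤ Y) : Good t (cj (z ^ m) X) := by_contra fun hb' => by
  obtain ⟨W, bW, h1, -⟩ := h.bad ht hX hb
  obtain ⟨W', bW', h2, -⟩ := h.bad ht (h.inv X hX _) hb'
  have h3 : cj (z ^ m) (Gm D t) = Gm D t :=
    cj_eq_of_mem_centralizer (centralizer_le b.le (Zs_cent (zpow_mem hz m)))
  have h4 := uniq h ht (h.inv X hX _) hb' bW'.toBlk (h.blk_cj bW.toBlk (z ^ m)) bW'.le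
    (h3.ge.trans (cj_mono _ bW.le)) h2 (cj_mono _ h1)
  have h5 := cj_eq_of_mem_normalizer bW'.nt
  rw [h4, cj_cj, show t * z ^ m = (z ^ m)⁻¹ * t by rw [← inv_zpow, ← hi, conj_zpow]; group, cj_mul,
    cj_eq_of_mem_normalizer bW.nt, cj_eq_iff_eq_cj_inv, inv_inv, cj_cj, ← zpow_add] at h5
  obtain ⟨A, hA, a⟩ := ht.pt
  have a' := (le_Gm hA).2 a
  have h6 := h.adj bW.toBlk b.toBlk (fun e => hXY (e ▸ h1)) hA (a'.trans bW.le) (a'.trans b.le)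
    ⟨zpow_mem hz (m + m), cj_eq_self_iff.1 h5.symm⟩
  refine hn (mem_of_zpow_mem h.qp (h.blk_sol b.toBlk).pZ hz (fun h7 => hm ?_) h6)
  rw [← two_mul] at h7
  obtain ⟨j, hj⟩ := h.qp.odd_of_ne_two h.q2
  have h8 : m = q * m - 2 * m * j := by rw [hj]; push_cast; ring
  rw [h8]
  exact dvd_sub (Dvd.intro _ rfl) (h7.mul_right _)

theorem count (h : MC p q k D) (ht : Iv D t) (b : Nb q D t Y) (b' : Nb q D t X') (hne : X' ≠ Y) :
    (q - 1) * {X | X ∈ D ∧ ¬ Good t X ∧ ¬ X ≤ Y}.ncard ≤ {X | X ∈ D ∧ Good t X}.ncard := by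
  obtain ⟨z, hz, hi, hn⟩ := h.zm ht b b' hne
  have h1 : (Set.Ioo 0 q).ncard = q - 1 := by
    rw [← Finset.coe_Ioo, Set.ncard_coe_finset, Nat.card_Ioo, Nat.sub_zero]
  rw [← h1, ← Set.ncard_prod]
  refine Set.ncard_le_ncard_of_injOn (fun x : ℕ × Subgroup G => cj (z ^ (x.1 : ℤ)) x.2) ?_ ?_
    (Set.toFinite _)
  · rintro ⟨i, X⟩ ⟨⟨h2, h3⟩, hX, hb, hXY⟩
    exact ⟨h.inv X hX _, key h ht b hz hi hn (fun h4 => (Nat.le_of_dvd h2
      (by exact_mod_cast h4)).not_gt h3) hX hb hXY⟩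
  · rintro ⟨i, X⟩ ⟨⟨h2, h3⟩, hX, hb, hXY⟩ ⟨j, W⟩ ⟨⟨h4, h5⟩, -, hb', -⟩ e
    have e' : cj (z ^ ((i : ℤ) - j)) X = W := by
      rw [sub_eq_neg_add, zpow_add, cj_mul, zpow_neg]
      exact (congrArg (cj _) e).trans (cj_inv_cj _ _)
    have hij : (i : ℤ) - j = 0 := by
      refine Int.eq_zero_of_abs_lt_dvd (by_contra fun h6 => hb' (e' ▸ key h ht b hz hi hn h6 hX hb hXY))
        ?_
      simp only at h2 h3 h4 h5
      rw [abs_lt]; omega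
    rw [hij, zpow_zero, cj_one] at e'
    exact Prod.ext (by simp only; omega) e'

end Cmp

theorem MC.cmp (h : MC p q k D) (ht : Iv D t) :
    2 * (q - 1) * {X | X ∈ D ∧ ¬ Good t X}.ncard ≤ 3 * {X | X ∈ D ∧ Good t X}.ncard := by
  rcases Set.eq_empty_or_nonempty {X | X ∈ D ∧ ¬ Good t X} with h0 | ⟨X, hX, hb⟩
  · rw [h0, Set.ncard_empty, mul_zero]; exact Nat.zero_le _
  obtain ⟨Y, b, -, -, Y', b', ne⟩ := h.bad ht hX hb
  obtain ⟨z, hz, hc, hn⟩ := b.ex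
  have b'' := h.nb_cj b' hc
  obtain ⟨A, hA, a⟩ := ht.pt
  have a' := (le_Gm hA).2 a
  have n1 : cj z Y' ≠ Y' := fun e => hn (h.adj b'.toBlk b.toBlk ne hA (a'.trans b'.le) (a'.trans b.le)
    ⟨hz, cj_eq_self_iff.1 e⟩)
  have n2 : cj z Y' ≠ Y := fun e => ne (cj_injective z
    (e.trans (cj_eq_of_mem_centralizer (Zs_cent hz)).symm))
  generalize cj z Y' = Y'' at b'' n1 n2
  have c1 := Cmp.count h ht b b' ne
  have c2 := Cmp.count h ht b' b ne.symm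
  have c3 := Cmp.count h ht b'' b n2.symm
  have split : ∀ W : Subgroup G, {X | X ∈ D ∧ ¬ Good t X ∧ ¬ X ≤ W}.ncard +
      {X | X ∈ D ∧ ¬ Good t X ∧ X ≤ W}.ncard = {X | X ∈ D ∧ ¬ Good t X}.ncard := fun W => by
    rw [← Set.ncard_union_eq (Set.disjoint_left.2 fun _ h1 h2 => h1.2.2 h2.2.2)]
    congr 1
    ext X
    simp only [Set.mem_union, Set.mem_ofPred_eq]
    tauto
  have dj : ∀ {W W' : Subgroup G}, Nb q D t W → Nb q D t W' → W ≠ W' →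
      Disjoint {X | X ∈ D ∧ ¬ Good t X ∧ X ≤ W} {X | X ∈ D ∧ ¬ Good t X ∧ X ≤ W'} :=
    fun b b' ne => Set.disjoint_left.2 fun _ h1 h2 =>
      ne (Cmp.uniq h ht h1.1 h1.2.1 b.toBlk b'.toBlk b.le b'.le h1.2.2 h2.2.2)
  have tot : {X | X ∈ D ∧ ¬ Good t X ∧ X ≤ Y}.ncard + {X | X ∈ D ∧ ¬ Good t X ∧ X ≤ Y'}.ncard +
      {X | X ∈ D ∧ ¬ Good t X ∧ X ≤ Y''}.ncard ≤ {X | X ∈ D ∧ ¬ Good t X}.ncard := by
    rw [← Set.ncard_union_eq (dj b b' ne.symm),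
      ← Set.ncard_union_eq (Set.disjoint_union_left.2 ⟨dj b b'' n2.symm, dj b' b'' n1.symm⟩)]
    refine Set.ncard_le_ncard ?_
    rintro W ((h1 | h1) | h1) <;> exact ⟨h1.1, h1.2.1⟩
  have s1 := split Y
  have s2 := split Y'
  have s3 := split Y''
  generalize {X | X ∈ D ∧ ¬ Good t X}.ncard = n at *
  calc 2 * (q - 1) * n = (q - 1) * (2 * n) := by ring
    _ ≤ (q - 1) * ({X | X ∈ D ∧ ¬ Good t X ∧ ¬ X ≤ Y}.ncard + {X | X ∈ D ∧ ¬ Good t X ∧ ¬ X ≤ Y'}.ncard +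
        {X | X ∈ D ∧ ¬ Good t X ∧ ¬ X ≤ Y''}.ncard) := Nat.mul_le_mul_left _ (by omega)
    _ ≤ _ := by rw [mul_add, mul_add]; omega

end Cfsg.Lib.FSet
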