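import Cfsg.Agent.Trans.SylowIn
import Cfsg.Agent.Trans.Conj
import Cfsg.Prelude.Def_Solvable
import Cfsg.Prelude.Def_Characters

/-!
# Sets of subgroups of order `p` any two of which generate a fixed group of odd order

Members of `D` are points, the subgroups `A ⊔ B` are lines.
-/

set_option autoImplicit false

open scoped commutatorElement

namespace Cfsg.Lib.FSet

open Cfsg Subgroup Cfsg.Lib.Trans

local notation "𝐂" A:max => Subgroup.centralizer (SetLike.coe A)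
local notation "𝐍" A:max => Subgroup.normalizer (SetLike.coe A)

variable {G : Type*} [Group G]

/-- the subgroup generated by the points inside `X`. -/
def sp (D : Set (Subgroup G)) (X : Subgroup G) : Subgroup G := sSup {A | A ∈ D ∧ A ≤ X}

/-- the central part of the derived group. -/
def Zs (X : Subgroup G) : Subgroup G := ⁅X, X⁆ ⊓ 𝐂 X

/-- the subgroup generated by the points centralised by `g`. -/
def Gm (D : Set (Subgroup G)) (g : G) : Subgroup G := sp D (centralizer {g})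

/-- the odd core of the centraliser of `t`. -/
def Ot (t : G) : Subgroup G :=
  (pPrimeCore 2 (centralizer ({t} : Set G))).map (centralizer ({t} : Set G)).subtype

/-- the nonidentity elements of the points inside `X`. -/
def Wt (D : Set (Subgroup G)) (X : Subgroup G) : Set G := {w | w ≠ 1 ∧ ∃ A ∈ D, A ≤ X ∧ w ∈ A}

/-- the lines through `A`. -/
def Ln (D : Set (Subgroup G)) (A : Subgroup G) : Set (Subgroup G) :=
  {L | ∃ B ∈ D, B ≠ A ∧ L = A ⊔ B}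

/-- `|A|` times the trace of `g` on the complement of the fixed space of `A`. -/
noncomputable def ps (A : Subgroup G) (χ : G → ℂ) (g : G) : ℝ :=
  ((Nat.card A : ℂ) * χ g - ∑ᶠ y ∈ (A : Set G), χ (g * y)).re

/-- the hypothesis of the statement. -/
structure H0 (p : ℕ) (D : Set (Subgroup G)) (F : Type*) [Group F] : Prop where
  pp : p.Prime
  p2 : p ≠ 2
  card : ∀ A ∈ D, Nat.card A = p
  inv : ∀ A ∈ D, ∀ g, cj g A ∈ D
  odd : Odd (Nat.card F)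
  nab : ∃ x y : F, x * y ≠ y * x
  iso : ∀ A ∈ D, ∀ B ∈ D, A ≠ B → Nonempty (↥(A ⊔ B) ≃* F)

/-- lines are `K A` with `K` a nonabelian `q`-group, `C_K(A)` central, `k` points on a line. -/
structure FS (p q k : ℕ) (D : Set (Subgroup G)) : Prop where
  pp : p.Prime
  qp : q.Prime
  p2 : p ≠ 2
  q2 : q ≠ 2
  pq : p ≠ q
  card : ∀ A ∈ D, Nat.card A = p
  inv : ∀ A ∈ D, ∀ g, cj g A ∈ D
  pK : ∀ A ∈ D, ∀ B ∈ D, A ≠ B → IsPGroup q ↥⁅A ⊔ B, A ⊔ B⁆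
  sup : ∀ A ∈ D, ∀ B ∈ D, A ≠ B → B ≤ ⁅A ⊔ B, A ⊔ B⁆ ⊔ A
  cen : ∀ A ∈ D, ∀ B ∈ D, A ≠ B → ⁅A ⊔ B, A ⊔ B⁆ ⊓ 𝐂 A ≤ 𝐂 B
  idx : ∀ A ∈ D, ∀ B ∈ D, A ≠ B → (Zs (A ⊔ B)).relIndex ⁅A ⊔ B, A ⊔ B⁆ = k
  nab : ∀ A ∈ D, ∀ B ∈ D, A ≠ B → ¬ ⁅A ⊔ B, A ⊔ B⁆ ≤ 𝐂 ⁅A ⊔ B, A ⊔ B⁆
  lin : ∀ A ∈ D, ∀ B ∈ D, A ≠ B → ∀ A' ∈ D, ∀ B' ∈ D, A' ≠ B' → A' ≤ A ⊔ B → B' ≤ A ⊔ B →
    A ⊔ B ≤ A' ⊔ B'

/-- the structure of a subgroup of odd order generated by points. -/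
structure Sol (q : ℕ) (D : Set (Subgroup G)) (X : Subgroup G) : Prop where
  gen : sp D X = X
  odd : Odd (Nat.card X)
  pQ : IsPGroup q ↥⁅X, X⁆
  sup : ∀ A ∈ D, A ≤ X → X ≤ ⁅X, X⁆ ⊔ A
  cen : ∀ A ∈ D, A ≤ X → ⁅X, X⁆ ⊓ 𝐂 A ≤ 𝐂 X
  cl2 : ⁅⁅X, X⁆, ⁅X, X⁆⁆ = Zs X
  tr : ∀ A ∈ D, ∀ B ∈ D, A ≤ X → B ≤ X → ∃ x ∈ ⁅X, X⁆, cj x A = B

/-- a minimal counterexample. -/
structure MC (p q k : ℕ) (D : Set (Subgroup G)) : Prop extends FS p q k D where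
  gen : sSup D = ⊤
  even : Even (Nat.card G)
  sol : ∀ X : Subgroup G, X ≠ ⊤ → Sol q D (sp D X)
  nz : ∀ u ∈ center G, u * u = 1 → u = 1

/-- a block: a maximal proper subgroup generated by points, with noncentral `Zs`. -/
structure Blk (D : Set (Subgroup G)) (X : Subgroup G) : Prop where
  ne : X ≠ ⊤
  gen : sp D X = X
  nc : ¬ Zs X ≤ center G
  max : ∀ Y : Subgroup G, Y ≠ ⊤ → X ≤ Y → sp D Y ≤ X

/-- an involution centralising a point. -/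
structure Iv (D : Set (Subgroup G)) (t : G) : Prop where
  sq : t * t = 1
  ne : t ≠ 1
  pt : ∃ A ∈ D, A ≤ centralizer {t}

/-- a good point. -/
def Good (t : G) (X : Subgroup G) : Prop :=
  ∀ w ∈ X, w ≠ 1 → ∃ y ∈ Ot t, IsConj (w * t) (t * y)

/-- the blocks that carry the bad points. -/
structure Nb (q : ℕ) (D : Set (Subgroup G)) (t : G) (X : Subgroup G) : Prop extends Blk D X where
  le : Gm D t ≤ X
  nt : t ∈ 𝐍 X
  ex : ∃ z ∈ Zs X, z * t = t * z ∧ z ∉ pCore q G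

end Cfsg.Lib.FSet
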