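import Cfsg.Agent.FSet.Defs
import Cfsg.Agent.Cor.OddSol
import Cfsg.Agent.Local.ProdCard
import Cfsg.Agent.Solv.Fitting
import Cfsg.Agent.Solv.Conj
import Cfsg.Agent.Fus.Alperin
import Cfsg.Agent.S0009

/-!
# The structure of a line
-/

set_option autoImplicit false

open scoped commutatorElement

namespace Cfsg.Lib.FSet

open Cfsg Subgroup Cfsg.Lib.Trans

local notation "𝐂" A:max => Subgroup.centralizer (SetLike.coe A)
local notation "𝐍" A:max => Subgroup.normalizer (SetLike.coe A)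

universe u

variable {G : Type u} [Group G] {p q k s : ℕ} {D : Set (Subgroup G)} {A B X Y X' : Subgroup G}
  {t g z : G}

variable [Finite G]

section Line
variable {F : Type*} [Group F] [Finite F]

theorem H0.lin (h : H0 p D F) (hA : A ∈ D) (hB : B ∈ D) (hne : A ≠ B) {A' B' : Subgroup G}
    (hA' : A' ∈ D) (hB' : B' ∈ D) (hne' : A' ≠ B') (h1 : A' ≤ A ⊔ B) (h2 : B' ≤ A ⊔ B) :
    A ⊔ B ≤ A' ⊔ B' := by
  obtain ⟨e⟩ := h.iso A hA B hB hne
  obtain ⟨e'⟩ := h.iso A' hA' B' hB' hne'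
  exact (eq_of_le_of_card_ge (sup_le h1 h2) (Nat.card_congr (e.trans e'.symm).toEquiv).le).ge

omit [Finite F]

namespace Line

theorem pt_inf (h : H0 p D F) (hA : A ∈ D) (hY : ¬ A ≤ Y) : Y ⊓ A = ⊥ := by
  rcases (Nat.dvd_prime h.pp).1 (h.card A hA ▸ card_dvd_of_le (inf_le_right : Y ⊓ A ≤ A)) with e | e
  · exact card_eq_one.1 e
  · exact absurd (inf_eq_right.1 (eq_of_le_of_card_ge inf_le_right (by rw [e, h.card A hA]))) hY

theorem ncomm (h : H0 p D F) (hA : A ∈ D) (hB : B ∈ D) (hne : A ≠ B) :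
    ¬ IsMulCommutative ↥(A ⊔ B) := by
  intro c
  obtain ⟨e⟩ := h.iso A hA B hB hne
  obtain ⟨x, y, hxy⟩ := h.nab
  apply hxy
  obtain ⟨x, rfl⟩ := e.surjective x
  obtain ⟨y, rfl⟩ := e.surjective y
  rw [← map_mul, ← map_mul, c.is_comm.comm]

theorem nn (h : H0 p D F) (hA : A ∈ D) (hB : B ∈ D) (hne : A ≠ B) : ¬ A ≤ 𝐍 B := by
  intro e
  have := Fact.mk h.pp
  have h1 := Local.CD.card_sup_mul_card_inf_of_le_normalizer e
  rw [pt_inf h hB fun l => hne (eq_of_le_of_card_ge l (by rw [h.card A hA, h.card B hB])).symm,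
    card_bot, mul_one, h.card A hA, h.card B hB, ← pow_two] at h1
  exact ncomm h hA hB hne (IsPGroup.isMulCommutative_of_card_eq_prime_sq h1)

theorem comm_of (h1 : Y ≤ 𝐍 A) (h2 : A ≤ 𝐍 Y) (h3 : Y ⊓ A = ⊥) : Y ≤ 𝐂 A := fun y hy => by
  rw [mem_centralizer_iff]
  intro a ha
  have : a * y * a⁻¹ * y⁻¹ ∈ Y ⊓ A :=
    ⟨Y.mul_mem (mem_normalizer_conj (h2 ha) hy) (Y.inv_mem hy), by
      rw [show a * y * a⁻¹ * y⁻¹ = a * (y * a⁻¹ * y⁻¹) by group]
      exact A.mul_mem ha (mem_normalizer_conj (h1 hy) (A.inv_mem ha))⟩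
  rwa [h3, mem_bot, mul_inv_eq_one, mul_inv_eq_iff_eq_mul] at this

omit [Finite G] in
theorem cent_sup (h1 : Y ≤ 𝐂 A) (h2 : Y ≤ 𝐂 B) : Y ≤ 𝐂 (A ⊔ B) :=
  le_centralizer_iff.1 (sup_le (le_centralizer_iff.1 h1) (le_centralizer_iff.1 h2))

theorem norm_of (h1 : ⁅X, X⁆ ≤ Y) (h2 : Y ≤ X) : X ≤ 𝐍 Y := fun x hx =>
  mem_normalizer_of_cj_le (cj_le_iff.2 fun y hy => by
    rw [show x * y * x⁻¹ = ⁅x, y⁆ * y by rw [commutatorElement_def]; group]
    exact Y.mul_mem (h1 (commutator_mem_commutator hx (h2 hy))) hy)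

variable [Finite F]

theorem sup_eq (h : H0 p D F) (hA : A ∈ D) (hB : B ∈ D) (hne : A ≠ B) (h1 : Y ≤ A ⊔ B)
    (h2 : ¬ Y ≤ 𝐍 A) : Y ⊔ A = A ⊔ B := by
  obtain ⟨y, hy, hn⟩ := SetLike.not_le_iff_exists.1 h2
  have h3 : Y ⊔ A ≤ A ⊔ B := sup_le h1 le_sup_left
  have h4 : cj y A ≤ Y ⊔ A := cj_le_of_mem_of_le (mem_sup_left hy) le_sup_right
  exact le_antisymm h3 ((h.lin hA hB hne hA (h.inv A hA y) (fun e => hn (cj_eq_self_iff.1 e.symm))
    le_sup_left (h4.trans h3)).trans (sup_le le_sup_right h4))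

theorem cent (h : H0 p D F) (hA : A ∈ D) (hB : B ∈ D) (hne : A ≠ B) (h1 : Y ≤ 𝐍 A)
    (h2 : A ⊔ B ≤ 𝐍 Y) : Y ≤ 𝐂 (A ⊔ B) := by
  obtain ⟨b, hb, hn⟩ := SetLike.not_le_iff_exists.1 (nn h hB hA hne.symm)
  have hA' := h.inv A hA b
  have ne : A ≠ cj b A := fun e => hn (cj_eq_self_iff.1 e.symm)
  have h3 : cj b A ≤ A ⊔ B := cj_le_of_mem_of_le (mem_sup_right hb) le_sup_left
  have h4 : Y ≤ 𝐍 (cj b A) := by
    rw [← cj_normalizer, ← cj_eq_of_mem_normalizer (h2 (mem_sup_right hb))]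
    exact cj_mono b h1
  refine (cent_sup (comm_of h1 (le_sup_left.trans h2) (pt_inf h hA fun l => ?_))
    (comm_of h4 (h3.trans h2) (pt_inf h hA' fun l => ?_))).trans
    (centralizer_le (h.lin hA hB hne hA hA' ne le_sup_left h3))
  · exact nn h hA hA' ne (l.trans h4)
  · exact nn h hA' hA ne.symm (l.trans h1)

omit [Finite F] in
theorem exists_core (ho : Odd (Nat.card X)) (hc : ¬ IsMulCommutative X) :
    ∃ (q : ℕ) (R : Subgroup G), q.Prime ∧ R ≤ X ∧ X ≤ 𝐍 R ∧ IsPGroup q R ∧ ¬ R ≤ 𝐂 X := by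
  have : Group.IsSolvable X := by
    by_contra e
    exact (Nat.not_even_iff_odd.2 ho) (even_iff_two_dvd.2 (Cor.even_card_of_not_isSolvable e))
  by_contra e
  push Not at e
  have h1 : fittingSubgroup X ≤ center X := by
    rw [Agent.S0009.result]
    refine iSup_le fun r x hx => ?_
    have h2 := e r ((pCore r X).map X.subtype) r.2 (map_subtype_le _)
      (fun y hy => mem_normalizer_of_cj_le (cj_le_iff.2 (by
        rintro _ ⟨w, hw, rfl⟩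
        exact ⟨_, (inferInstance : (pCore r X).Normal).conj_mem w hw ⟨y, hy⟩, rfl⟩)))
      ((Fus.isPGroup_pCore' r X).map _) (mem_map_of_mem _ hx)
    exact mem_center_iff.2 fun y => Subtype.ext (mem_centralizer_iff.1 h2 y y.2)
  exact hc ⟨⟨fun a b => mem_center_iff.1 (h1 (Solv.centralizer_fitting_le X
    (mem_centralizer_iff.2 fun y hy => (mem_center_iff.1 (h1 hy) b).symm))) a⟩⟩

end Line

variable [Finite F]

open Line in
theorem H0.pair (h : H0 p D F) (hA : A ∈ D) (hB : B ∈ D) (hne : A ≠ B) :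
    ∃ q : ℕ, q.Prime ∧ p ≠ q ∧ IsPGroup q ↥⁅A ⊔ B, A ⊔ B⁆ ∧ B ≤ ⁅A ⊔ B, A ⊔ B⁆ ⊔ A ∧
      ⁅A ⊔ B, A ⊔ B⁆ ⊓ 𝐂 A ≤ 𝐂 B := by
  obtain ⟨e⟩ := h.iso A hA B hB hne
  obtain ⟨q, R, hq, r1, r2, r3, r4⟩ := exists_core (X := A ⊔ B)
    (Nat.card_congr e.toEquiv ▸ h.odd) (ncomm h hA hB hne)
  have := Fact.mk h.pp
  have := Fact.mk hq
  have pA : IsPGroup p A := IsPGroup.of_card (n := 1) (by rw [h.card A hA, pow_one])
  have r5 : R ⊔ A = A ⊔ B := sup_eq h hA hB hne r1 fun l => r4 (cent h hA hB hne l r2)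
  have rA : A ≤ 𝐍 R := le_sup_left.trans r2
  have nB := nn h hB hA hne.symm
  have pq : p ≠ q := by
    rintro rfl
    have h1 : IsPGroup p ↥(A ⊔ B) := by
      rw [← r5, sup_comm]
      exact pA.to_sup_of_normal_right' r3 rA
    have h2 : (A ⊔ B) ⊓ 𝐍 A < A ⊔ B :=
      inf_le_left.lt_of_ne fun e => nB (le_sup_right.trans (inf_eq_left.1 e))
    obtain ⟨g, hg, hn⟩ := SetLike.exists_of_lt (Trans.lt_inf_normalizer h1 h2)
    refine nn h (h.inv A hA g) hA (fun e => hn ⟨hg.1, cj_eq_self_iff.1 e⟩) ?_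
    exact (cj_mono g (le_inf le_sup_left le_normalizer)).trans
      ((cj_eq_of_mem_normalizer hg.2).le.trans inf_le_right)
  have cA : ∀ a ∈ A, ∀ b ∈ A, a * b = b * a := fun a ha b hb => by
    have := isCyclic_of_prime_card (h.card A hA)
    exact congrArg Subtype.val ((inferInstance : IsMulCommutative A).is_comm.comm ⟨a, ha⟩ ⟨b, hb⟩)
  have kR : ⁅A ⊔ B, A ⊔ B⁆ ≤ R := by
    rw [← r5, commutator_le]
    intro x hx y hy
    obtain ⟨r, hr, a, ha, rfl⟩ := (Solv.mem_sup_of_le_normalizer rA).1 hx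
    obtain ⟨r', hr', a', ha', rfl⟩ := (Solv.mem_sup_of_le_normalizer rA).1 hy
    rw [show ⁅r * a, r' * a'⁆ = r * (a * r' * a⁻¹) * (a * a' * a⁻¹ * r⁻¹ * a'⁻¹) * r'⁻¹ by
      rw [commutatorElement_def]; group, cA a ha a' ha', mul_inv_cancel_right]
    exact R.mul_mem (R.mul_mem (R.mul_mem hr (mem_normalizer_conj (rA ha) hr'))
      (mem_normalizer_conj (rA ha') (R.inv_mem hr))) (R.inv_mem hr')
  have pK : IsPGroup q ↥⁅A ⊔ B, A ⊔ B⁆ := r3.to_le kR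
  have kL : ⁅A ⊔ B, A ⊔ B⁆ ≤ A ⊔ B := kR.trans r1
  have k1 : ¬ ⁅A ⊔ B, A ⊔ B⁆ ≤ 𝐍 A := fun l =>
    nn h hA hB hne (le_sup_right.trans ((cent h hA hB hne (sup_le l le_normalizer)
      (norm_of le_sup_left (sup_le kL le_sup_left))).trans
      ((centralizer_le (le_sup_right : B ≤ A ⊔ B)).trans (centralizer_le_normalizer _))))
  refine ⟨q, hq, pq, pK, le_sup_right.trans (sup_eq h hA hB hne kL k1).ge, ?_⟩
  have k2 : ⁅A ⊔ B, A ⊔ B⁆ ⊓ 𝐂 A < ⁅A ⊔ B, A ⊔ B⁆ :=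
    inf_le_left.lt_of_ne fun e => k1 ((inf_eq_left.1 e).trans (centralizer_le_normalizer _))
  have k3 := Trans.lt_inf_normalizer pK k2
  have k4 : ⁅A ⊔ B, A ⊔ B⁆ ⊓ 𝐍 A ≤ 𝐂 A := fun y hy => by
    rw [mem_centralizer_iff]
    intro a ha
    have : a * y * a⁻¹ * y⁻¹ ∈ ⁅A ⊔ B, A ⊔ B⁆ ⊓ A :=
      ⟨commutator_mem_commutator (mem_sup_left ha) (kL hy.1), by
        rw [show a * y * a⁻¹ * y⁻¹ = a * (y * a⁻¹ * y⁻¹) by group]
        exact A.mul_mem ha (mem_normalizer_conj hy.2 (A.inv_mem ha))⟩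
    rwa [(IsPGroup.disjoint_of_ne q p pq.symm _ _ pK pA).eq_bot, mem_bot, mul_inv_eq_one,
      mul_inv_eq_iff_eq_mul] at this
  have k5 := sup_eq h hA hB hne (inf_le_left.trans kL) fun l =>
    k3.not_ge (le_inf inf_le_left ((le_inf inf_le_left l).trans k4))
  refine (cent h hA hB hne (inf_le_right.trans (centralizer_le_normalizer _)) ?_).trans
    (centralizer_le (le_sup_right : B ≤ A ⊔ B))
  exact k5.ge.trans (sup_le inf_le_right
    ((le_centralizer_iff.1 inf_le_right).trans (centralizer_le_normalizer _)))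

end Line

end Cfsg.Lib.FSet
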