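import Cfsg.Agent.FSet.Tr
import Cfsg.Agent.Cor.OddSol
import Cfsg.Agent.Solv.NilpotentHall

/-!
# A subgroup of odd order generated by points has a derived group of `q`-power order
-/

set_option autoImplicit false
set_option linter.unusedSectionVars false

open scoped commutatorElement

namespace Cfsg.Lib.FSet

open Cfsg Subgroup Cfsg.Lib.Trans

local notation "𝐂" A:max => Subgroup.centralizer (SetLike.coe A)
local notation "𝐍" A:max => Subgroup.normalizer (SetLike.coe A)

universe u

variable {G : Type u} [Group G] [Finite G] {p q k : ℕ} {D : Set (Subgroup G)} {X : Subgroup G}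

namespace Odd1

theorem cent (h : FS p q k D) {A : Subgroup G} (hA : A ∈ D) :
    A.map (QuotientGroup.mk' (pCore q G)) ≤ 𝐂 (fittingSubgroup (G ⧸ pCore q G)) := by
  have := Fact.mk h.qp
  set f := QuotientGroup.mk' (pCore q G)
  set F := fittingSubgroup (G ⧸ pCore q G)
  have h1 : F ≤ 𝐍 (A.map f) := by
    intro y hy
    obtain ⟨y, rfl⟩ := QuotientGroup.mk'_surjective _ y
    refine mem_normalizer_of_cj_le ?_
    rw [← map_cj]
    by_cases e : A = cj y A
    · rw [← e]
    have h2 : cj y A ≤ F.comap f ⊔ A := cj_le_of_mem_of_le (mem_sup_left hy) le_sup_right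
    have h3 := h.comm_le_of hA (Y := F.comap f) (by rw [normalizer_eq_top]; exact le_top) h2
    have h4 := Solv.le_pCore_of_le_fitting ((h.pK A hA _ (h.inv A hA y) e).map f)
      (map_le_iff_le_comap.2 h3)
    rw [Solv.pCore_quotient_pCore] at h4
    refine (map_mono (h.sup A hA _ (h.inv A hA y) e)).trans ?_
    rw [Subgroup.map_sup]
    exact sup_le (h4.trans bot_le) le_rfl
  rw [← commutator_eq_bot_iff_le_centralizer]
  by_contra hne
  obtain ⟨⟨u, hu⟩, u1⟩ := ne_bot_iff_exists_ne_one.1 hne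
  have h2 : ⁅A.map f, F⁆ ≤ A.map f := by
    rw [commutator_le]
    intro x hx y hy
    rw [commutatorElement_def, mul_assoc, mul_assoc, ← mul_assoc y]
    exact mul_mem hx (mem_normalizer_conj (h1 hy) (inv_mem hx))
  obtain ⟨a, ha, rfl⟩ := h2 hu
  have h3 : A.map f ≤ ⁅A.map f, F⁆ := by
    conv_lhs => rw [← h.zp hA ha fun e => u1 (Subtype.ext ((congrArg f e).trans (map_one f))),
      MonoidHom.map_zpowers]
    exact zpowers_le.2 hu
  have h4 := Solv.eq_bot_of_le_commutator_of_isNilpotent (N := F) inferInstance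
    (h3.trans (commutator_le_right _ _)) h3
  rw [h4, commutator_bot_left] at hne
  exact hne rfl

theorem top (h : FS p q k D) (hg : sSup D = ⊤) (ho : Odd (Nat.card G)) :
    IsPGroup q ↥⁅(⊤ : Subgroup G), (⊤ : Subgroup G)⁆ := by
  have : Group.IsSolvable G := by
    by_contra hn
    exact Nat.not_even_iff_odd.2 ho (even_iff_two_dvd.2 (Cor.even_card_of_not_isSolvable hn))
  have h1 : ⊤ ≤ (𝐂 (fittingSubgroup (G ⧸ pCore q G))).comap (QuotientGroup.mk' (pCore q G)) :=
    hg.ge.trans (sSup_le fun A hA => map_le_iff_le_comap.1 (cent h hA))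
  refine (Solv.pCore_isPGroup q G).to_le (commutator_le.2 fun x _ y _ => ?_)
  rw [← QuotientGroup.ker_mk' (pCore q G), MonoidHom.mem_ker, map_commutatorElement,
    commutatorElement_eq_one_iff_mul_comm]
  exact mem_centralizer_iff.1 (h1 (mem_top y)) _ (Solv.centralizer_fitting_le _ (h1 (mem_top x)))

end Odd1

theorem FS.odd1 (h : FS p q k D) (h1 : sp D X = X) (h2 : Odd (Nat.card X)) :
    IsPGroup q ↥⁅X, X⁆ ∧ ∀ A ∈ D, A ≤ X → X ≤ ⁅X, X⁆ ⊔ A := by
  refine ⟨?_, fun A hA hX => h1.ge.trans (sp_le_iff.2 fun B hB hB' => ?_)⟩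
  · have := (Odd1.top (h.sub X) (sSup_sub h1) h2).map X.subtype
    rwa [map_commutator, ← MonoidHom.range_eq_map, range_subtype] at this
  · by_cases e : A = B
    · exact e ▸ le_sup_right
    · exact (h.sup A hA B hB e).trans
        (sup_le_sup_right (commutator_mono (sup_le hX hB') (sup_le hX hB')) _)

end Cfsg.Lib.FSet
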