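import Cfsg.Agent.FSet.Basic
import Cfsg.Agent.Solv.FitTools
import Cfsg.Agent.Trans.BlkML

/-!
# Sets of subgroups of order `p`: the structure of subgroups of odd order
-/

set_option autoImplicit false

open scoped commutatorElement

namespace Cfsg.Lib.FSet

open Cfsg Subgroup Cfsg.Lib.Trans

local notation "𝐂" A:max => Subgroup.centralizer (SetLike.coe A)
local notation "𝐍" A:max => Subgroup.normalizer (SetLike.coe A)

universe u

variable {G : Type u} [Group G] {p q k s : ℕ} {D : Set (Subgroup G)} {A B X Y X' : Subgroup G}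
  {t g z : G}

variable [Finite G]

namespace Spec

theorem comm_le_of (h : FS p q k D) (hA : A ∈ D) (hn : A ≤ 𝐍 Y) : ⁅Y ⊔ A, Y ⊔ A⁆ ≤ Y := by
  refine commutator_le.2 fun x hx y hy => ?_
  obtain ⟨u, hu, a, ha, rfl⟩ := (Solv.mem_sup_of_le_normalizer hn).1 hx
  obtain ⟨v, hv, b, hb, rfl⟩ := (Solv.mem_sup_of_le_normalizer hn).1 hy
  have hc : a * b = b * a := mem_centralizer_iff.1 (h.comm hA hb) a ha
  have : ⁅u * a, v * b⁆ = u * (a * v * a⁻¹) * (b * u⁻¹ * b⁻¹) * v⁻¹ := by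
    rw [commutatorElement_def]
    calc u * a * (v * b) * (u * a)⁻¹ * (v * b)⁻¹
        = u * (a * v * a⁻¹) * ((a * b) * a⁻¹ * u⁻¹ * b⁻¹) * v⁻¹ := by group
      _ = _ := by rw [hc]; group
  rw [this]
  exact mul_mem (mul_mem (mul_mem hu ((mem_normalizer_iff.1 (hn ha) v).1 hv))
    ((mem_normalizer_iff.1 (hn hb) _).1 (inv_mem hu))) (inv_mem hv)

theorem cent_le (h : FS p q k D) (h1 : sp D X = X) (h3 : IsPGroup q ↥⁅X, X⁆) (hA : A ∈ D)
    (hX : A ≤ X) (h4 : X ≤ ⁅X, X⁆ ⊔ A) : ⁅X, X⁆ ⊓ 𝐂 A ≤ ⁅⁅X, X⁆, ⁅X, X⁆⁆ := by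
  have := Fact.mk h.qp
  have hn : A ≤ 𝐍 ⁅X, X⁆ := hX.trans (le_normalizer.trans norm_comm)
  have h5 : X ≤ ⁅⁅X, X⁆, A⁆ ⊔ A := by
    refine h1.ge.trans (sp_le_iff.2 fun B hB hBX => ?_)
    obtain ⟨y, hy, rfl⟩ := h.tr_of hA hB h3 hn (hBX.trans h4)
    refine cj_le_iff.2 fun a ha => ?_
    rw [show y * a * y⁻¹ = ⁅y, a⁆ * a by rw [commutatorElement_def]; group]
    exact mul_mem (mem_sup_left (commutator_mem_commutator hy ha)) (mem_sup_right ha)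
  have h6 : ⁅X, X⁆ ≤ ⁅⁅X, X⁆, A⁆ :=
    (commutator_mono h5 h5).trans (comm_le_of h hA (Solv.right_le_normalizer_commutator _ _))
  refine (inf_le_inf_right _ h6).trans (Solv.FH.commutator_inf_centralizer_le hn ?_)
  rw [h.card A hA]
  exact (Solv.coprime_card_of_isPGroup h3 ((Nat.coprime_primes h.pp h.qp).2 h.pq)).symm

theorem le_cent (h : FS p q k D) (h1 : sp D X = X) (hY : IsPGroup q Y) (hn : X ≤ 𝐍 Y)
    (hab : Y ≤ 𝐂 Y) : Y ≤ 𝐂 X :=
  cent_symm (h1.ge.trans (sp_le_iff.2 fun _ hA hX => cent_symm (h.ab hA hY (hX.trans hn) hab)))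

theorem class_two (h : FS p q k D) (h1 : sp D X = X) {Q : Subgroup G} (hQ : IsPGroup q Q)
    (hle : Q ≤ X) (hn : X ≤ 𝐍 Q) : ⁅Q, Q⁆ ≤ 𝐂 X := by
  have := Fact.mk h.qp
  have hQ' : IsPGroup q ↥⁅Q, Q⁆ := hQ.to_le comm_le
  have cZ : ∀ {a z}, a ∈ 𝐍 Q → z ∈ 𝐂 Q → a * z * a⁻¹ ∈ 𝐂 Q := fun ha hz =>
    (mem_normalizer_iff.1 (norm_cent ha) _).1 hz
  let W : Subgroup G :=
    { carrier := {x | x ∈ ⁅Q, Q⁆ ∧ ∀ y ∈ Q, ⁅y, x⁆ ∈ 𝐂 Q}
      one_mem' := ⟨one_mem _, fun y _ => by rw [commutatorElement_one_right]; exact one_mem _⟩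
      mul_mem' := fun {a b} ha hb => ⟨mul_mem ha.1 hb.1, fun y hy => by
        rw [show ⁅y, a * b⁆ = ⁅y, a⁆ * (a * ⁅y, b⁆ * a⁻¹) by simp only [commutatorElement_def]; group]
        exact mul_mem (ha.2 y hy) (cZ (le_normalizer (comm_le ha.1)) (hb.2 y hy))⟩
      inv_mem' := fun {a} ha => ⟨inv_mem ha.1, fun y hy => by
        rw [show ⁅y, a⁻¹⁆ = a⁻¹ * ⁅y, a⁆⁻¹ * a⁻¹⁻¹ by simp only [commutatorElement_def]; group]
        exact cZ (inv_mem (le_normalizer (comm_le ha.1))) (inv_mem (ha.2 y hy))⟩ }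
  have hW : W ≤ ⁅Q, Q⁆ := fun x hx => hx.1
  have h2 : ⁅Q, W⁆ ≤ 𝐂 Q := commutator_le.2 fun y hy x hx => hx.2 y hy
  have h3 : ⁅⁅Q, Q⁆, W⁆ = ⊥ := commutator_commutator_eq_bot_of_rotate
    (commutator_eq_bot_iff_le_centralizer.2 h2)
    (by rw [commutator_comm W]; exact commutator_eq_bot_iff_le_centralizer.2 h2)
  have h4 : W ≤ 𝐂 X := le_cent h h1 (hQ'.to_le hW) (fun x hx => mem_normalizer_of_cj_le
    (cj_le_iff.2 fun w hw => ⟨(mem_normalizer_iff.1 (norm_comm (hn hx)) _).1 hw.1, fun y hy => by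
      rw [show ⁅y, x * w * x⁻¹⁆ = x * ⁅x⁻¹ * y * x, w⁆ * x⁻¹ by simp only [commutatorElement_def]; group]
      exact cZ (hn hx) (hw.2 _ ((mem_normalizer_iff''.1 (hn hx) _).1 hy))⟩))
    (hW.trans (commutator_eq_bot_iff_le_centralizer.1 h3))
  have h5 : ⁅Q, Q⁆ ≤ 𝐂 Q := by_contra fun h0 => by
    obtain ⟨w, hw, hw', hc⟩ := BB.ML.exists_comm_mem' hQ' hQ (le_normalizer.trans norm_comm) h0
    exact hw' (cent_anti hle (h4 ⟨hw, hc⟩))
  exact le_cent h h1 hQ' (hn.trans norm_comm) (h5.trans (cent_anti comm_le))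

end Spec

theorem FS.sol_of (h : FS p q k D) (h1 : sp D X = X) (h2 : Odd (Nat.card X))
    (h3 : IsPGroup q ↥⁅X, X⁆) (h4 : ∀ A ∈ D, A ≤ X → X ≤ ⁅X, X⁆ ⊔ A) : Sol q D X := by
  have hn : X ≤ 𝐍 ⁅X, X⁆ := le_normalizer.trans norm_comm
  have h5 := Spec.class_two h h1 h3 comm_le hn
  refine ⟨h1, h2, h3, h4, fun A hA hX => (Spec.cent_le h h1 h3 hA hX (h4 A hA hX)).trans h5,
    le_antisymm (le_inf comm_le h5) ?_,
    fun A hA B hB hX hX' => h.tr_of hA hB h3 (hX.trans hn) (hX'.trans (h4 A hA hX))⟩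
  by_cases h0 : ∃ A ∈ D, A ≤ X
  · obtain ⟨A, hA, hX⟩ := h0
    exact (inf_le_inf_left _ (cent_anti hX)).trans (Spec.cent_le h h1 h3 hA hX (h4 A hA hX))
  · exact (Zs_le.trans comm_le).trans (h1.ge.trans (sp_le_iff.2 fun A hA hX => absurd ⟨A, hA, hX⟩ h0))

theorem fin (hp : p.Prime) (hA : Nat.card A = p) (ho : Odd (Nat.card G)) (hn : ¬ A.Normal)
    (hN : 𝐍 A ≤ center G ⊔ A) (hc : ∀ g, cj g A ≤ 𝐍 A → g ∈ 𝐍 A) :
    Odd (Nat.card (G ⧸ center G)) ∧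
      ∃ H : Subgroup (G ⧸ center G), IsFrobeniusComplement H := by
  have hZ : center G ⊔ A ≤ 𝐍 A := sup_le (fun z hz => cent_le_norm
    (mem_centralizer_iff.2 fun a _ => mem_center_iff.1 hz a)) le_normalizer
  have hco : (A.map (QuotientGroup.mk' (center G))).comap (QuotientGroup.mk' (center G)) =
      center G ⊔ A := by rw [comap_map_eq, QuotientGroup.ker_mk', sup_comm]
  have hne : A.map (QuotientGroup.mk' (center G)) ≠ ⊥ := fun h0 => by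
    rw [Subgroup.map_eq_bot_iff, QuotientGroup.ker_mk'] at h0
    exact hn ⟨fun a ha g => by rwa [mem_center_iff.1 (h0 ha) g, mul_inv_cancel_right]⟩
  have hcard : Nat.card (A.map (QuotientGroup.mk' (center G))) = p :=
    ((Nat.dvd_prime hp).1 (hA ▸ card_map_dvd A _)).resolve_left fun h0 => hne (card_eq_one.1 h0)
  refine ⟨ho.of_dvd_nat (card_quotient_dvd_card _), A.map (QuotientGroup.mk' (center G)), hne,
    fun h0 => hn (normalizer_eq_top_iff.1 (top_le_iff.1 (le_trans ?_ hZ))), fun g hg => ?_⟩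
  · rw [← hco, h0, comap_top]
  obtain ⟨g, rfl⟩ := QuotientGroup.mk'_surjective _ g
  rw [conj_smul_eq_cj]
  by_contra h0
  have h1 := ((Nat.dvd_prime hp).1 (((card_cj _ _).trans hcard) ▸ card_dvd_of_le
    (inf_le_right : A.map (QuotientGroup.mk' (center G)) ⊓ cj (QuotientGroup.mk' (center G) g)
      (A.map (QuotientGroup.mk' (center G))) ≤ _))).resolve_left fun h1 => h0 (card_eq_one.1 h1)
  have h2 := eq_of_le_of_card_ge (inf_le_right : A.map (QuotientGroup.mk' (center G)) ⊓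
    cj (QuotientGroup.mk' (center G) g) (A.map (QuotientGroup.mk' (center G))) ≤ _)
    (by rw [h1, card_cj, hcard])
  rw [inf_eq_right, ← map_cj, map_le_iff_le_comap, hco] at h2
  exact hg (mem_comap.1 (hco ▸ hN (hc g (h2.trans hZ))))

theorem Sol.norm_le (hS : Sol q D ⊤) (h : FS p q k D) (hA : A ∈ D) : 𝐍 A ≤ center G ⊔ A := by
  intro n hn
  have hq : A ≤ 𝐍 ⁅(⊤ : Subgroup G), ⊤⁆ := le_top.trans (le_normalizer.trans norm_comm)
  obtain ⟨x, hx, a, ha, rfl⟩ := (Solv.mem_sup_of_le_normalizer hq).1 (hS.sup A hA le_top (mem_top n))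
  have h1 : x ∈ 𝐍 A := (mul_mem_cancel_right (le_normalizer ha)).1 hn
  have h2 := hS.cen A hA le_top ⟨hx, h.cent_of_q hA hS.pQ hq hx h1⟩
  exact mul_mem (mem_sup_left (mem_center_iff.2 fun g => mem_centralizer_iff.1 h2 g (mem_top g)))
    (mem_sup_right ha)

end Cfsg.Lib.FSet
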