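import Cfsg.Agent.FSet.Basic
import Cfsg.Agent.Solv.MinNormal
import Mathlib.GroupTheory.SchurZassenhaus

/-!
# Transport to subgroups and to quotients by central involutions; the minimal counterexample
-/

set_option autoImplicit false
set_option linter.unusedSectionVars false

open scoped commutatorElement

namespace Cfsg.Lib.FSet

open Cfsg Subgroup Cfsg.Lib.Trans

local notation "𝐂" A:max => Subgroup.centralizer (SetLike.coe A)

universe u

variable {G : Type u} [Group G] {p q k : ℕ} {D : Set (Subgroup G)} {X : Subgroup G}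

namespace Tr

variable {M H : Type*} [Group M] [Group H] {f : M →* H}

theorem mem_cent (hf : Function.Injective f) {U : Subgroup M} {x : M} :
    f x ∈ 𝐂 (U.map f) ↔ x ∈ 𝐂 U := by
  rw [mem_centralizer_iff, mem_centralizer_iff]
  constructor
  · intro h u hu
    exact hf (by rw [map_mul, map_mul]; exact h _ ⟨u, hu, rfl⟩)
  · rintro h _ ⟨u, hu, rfl⟩
    rw [← map_mul, ← map_mul, h u hu]

theorem map_inf_cent (hf : Function.Injective f) (U W : Subgroup M) :
    W.map f ⊓ 𝐂 (U.map f) = (W ⊓ 𝐂 U).map f := by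
  ext y
  constructor
  · rintro ⟨⟨x, hx, rfl⟩, h⟩
    exact ⟨x, ⟨hx, (mem_cent hf).1 h⟩, rfl⟩
  · rintro ⟨x, hx, rfl⟩
    exact ⟨⟨x, hx.1, rfl⟩, (mem_cent hf).2 hx.2⟩

theorem map_le_cent (hf : Function.Injective f) (U W : Subgroup M) :
    W.map f ≤ 𝐂 (U.map f) ↔ W ≤ 𝐂 U := by
  rw [map_le_iff_le_comap]
  exact forall₂_congr fun x _ => mem_cent hf

/-- the properties of a pair of points. -/
def Pair (q k : ℕ) (A B : Subgroup M) : Prop :=
  IsPGroup q ↥⁅A ⊔ B, A ⊔ B⁆ ∧ B ≤ ⁅A ⊔ B, A ⊔ B⁆ ⊔ A ∧ ⁅A ⊔ B, A ⊔ B⁆ ⊓ 𝐂 A ≤ 𝐂 B ∧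
    (Zs (A ⊔ B)).relIndex ⁅A ⊔ B, A ⊔ B⁆ = k ∧ ¬ ⁅A ⊔ B, A ⊔ B⁆ ≤ 𝐂 ⁅A ⊔ B, A ⊔ B⁆

theorem Pair_eq_1' : type_of% @Pair.eq_1 := @Pair.eq_1

theorem pair_map (hf : Function.Injective f) (A B : Subgroup M) :
    Pair q k (A.map f) (B.map f) ↔ Pair q k A B := by
  unfold Pair Zs
  rw [← Subgroup.map_sup, ← map_commutator, ← Subgroup.map_sup, map_inf_cent hf, map_inf_cent hf,
    map_le_cent hf, map_le_cent hf, map_le_map_iff_of_injective hf,
    relIndex_map_map_of_injective _ _ hf]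
  exact and_congr_left' ⟨fun h => h.of_equiv (equivMapOfInjective _ f hf).symm, fun h => h.map f⟩

theorem pair (h : FS p q k D) {A B : Subgroup G} (hA : A ∈ D) (hB : B ∈ D) (hne : A ≠ B) :
    Pair q k A B :=
  ⟨h.pK A hA B hB hne, h.sup A hA B hB hne, h.cen A hA B hB hne, h.idx A hA B hB hne,
    h.nab A hA B hB hne⟩

theorem eq_one {n : G} {m : ℕ} (h2 : n ^ 2 = 1) (hm : Odd m) (h : n ^ m = 1) : n = 1 := by
  obtain ⟨c, rfl⟩ := hm
  rwa [pow_succ, pow_mul, h2, one_pow, one_mul] at h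

theorem le_of_map_le {N U L : Subgroup G} [N.Normal] (h1 : N ≤ center G) (h2 : Nat.card N = 2)
    (hU : Odd (Nat.card U)) (hL : Odd (Nat.card L))
    (h : U.map (QuotientGroup.mk' N) ≤ L.map (QuotientGroup.mk' N)) : U ≤ L := by
  intro u hu
  obtain ⟨l, hl, e⟩ := h ⟨u, hu, rfl⟩
  obtain ⟨n, hn, rfl⟩ := (QuotientGroup.mk'_eq_mk' N).1 e
  have hc : Commute l n := mem_center_iff.1 (h1 hn) l
  have a1 : (l * n) ^ Nat.card U = 1 := congrArg Subtype.val (pow_card_eq_one' (x := (⟨_, hu⟩ : U)))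
  have a2 : l ^ Nat.card L = 1 := congrArg Subtype.val (pow_card_eq_one' (x := (⟨_, hl⟩ : L)))
  have a3 : n ^ 2 = 1 := h2 ▸ congrArg Subtype.val (pow_card_eq_one' (x := (⟨_, hn⟩ : N)))
  have a4 : n ^ (Nat.card U * Nat.card L) = 1 := by
    have : (l * n) ^ (Nat.card U * Nat.card L) = 1 := by rw [pow_mul, a1, one_pow]
    rwa [hc.mul_pow, pow_mul' l, a2, one_pow, one_mul] at this
  rwa [eq_one a3 (hU.mul hL) a4, mul_one]

theorem inj {N L : Subgroup G} [N.Normal] (h2 : Nat.card N = 2)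
    (hL : Odd (Nat.card L)) : Function.Injective ((QuotientGroup.mk' N).comp L.subtype) := by
  rw [injective_iff_map_eq_one]
  intro x hx
  have hx' : (x : G) ∈ N := (QuotientGroup.eq_one_iff _).1 hx
  exact Subtype.ext (eq_one (h2 ▸ congrArg Subtype.val (pow_card_eq_one' (x := (⟨_, hx'⟩ : N)))) hL
    (congrArg Subtype.val (pow_card_eq_one' (x := x))))

theorem map_eq (g : M →* H) {A L : Subgroup M} (h : A ≤ L) :
    A.map g = (A.subgroupOf L).map (g.comp L.subtype) := by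
  rw [← Subgroup.map_map, subgroupOf_map_subtype, inf_eq_left.2 h]

end Tr

variable [Finite G]

theorem FS.sub (h : FS p q k D) (X : Subgroup G) :
    FS p q k {A : Subgroup X | A.map X.subtype ∈ D} := by
  have hf := X.subtype_injective
  have key : ∀ A ∈ {A : Subgroup X | A.map X.subtype ∈ D},
      ∀ B ∈ {A : Subgroup X | A.map X.subtype ∈ D}, A ≠ B → Tr.Pair q k A B :=
    fun A hA B hB hne => (Tr.pair_map hf A B).1 (Tr.pair h hA hB ((map_injective hf).ne hne))
  refine ⟨h.pp, h.qp, h.p2, h.q2, h.pq, fun A hA => ?_, fun A hA g => ?_,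
    fun A hA B hB hne => (key A hA B hB hne).1, fun A hA B hB hne => (key A hA B hB hne).2.1,
    fun A hA B hB hne => (key A hA B hB hne).2.2.1, fun A hA B hB hne => (key A hA B hB hne).2.2.2.1,
    fun A hA B hB hne => (key A hA B hB hne).2.2.2.2, fun A hA B hB hne A' hA' B' hB' hne' a b => ?_⟩
  · rw [← h.card _ hA, card_map_of_injective hf]
  · change (cj g A).map X.subtype ∈ D
    rw [map_cj]
    exact h.inv _ hA _
  · rw [← map_le_map_iff_of_injective hf, Subgroup.map_sup] at a b ⊢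
    rw [Subgroup.map_sup]
    exact h.lin _ hA _ hB ((map_injective hf).ne hne) _ hA' _ hB' ((map_injective hf).ne hne') a b

theorem sSup_sub (h : sp D X = X) : sSup {A : Subgroup X | A.map X.subtype ∈ D} = ⊤ := by
  rw [eq_top_iff, ← map_le_map_iff_of_injective X.subtype_injective, ← MonoidHom.range_eq_map,
    range_subtype]
  refine h.ge.trans (sp_le_iff.2 fun A hA hX => ?_)
  have e : (A.subgroupOf X).map X.subtype = A := by rw [subgroupOf_map_subtype, inf_eq_left.2 hX]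
  exact e.ge.trans (map_mono (le_sSup (show (A.subgroupOf X).map X.subtype ∈ D from e.symm ▸ hA)))

theorem FS.quot (h : FS p q k D) (N : Subgroup G) [N.Normal] (h1 : N ≤ center G)
    (h2 : Nat.card N = 2) : FS p q k ((fun A => A.map (QuotientGroup.mk' N)) '' D) := by
  have op : ∀ A ∈ D, Odd (Nat.card A) := fun A hA => h.card A hA ▸ h.pp.odd_of_ne_two h.p2
  have key : ∀ A ∈ (fun A : Subgroup G => A.map (QuotientGroup.mk' N)) '' D,
      ∀ B ∈ (fun A : Subgroup G => A.map (QuotientGroup.mk' N)) '' D, A ≠ B → Tr.Pair q k A B := by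
    rintro _ ⟨A, hA, rfl⟩ _ ⟨B, hB, rfl⟩ hne
    have hne' : A ≠ B := fun e => hne (e ▸ rfl)
    have h3 := Tr.pair h hA hB hne'
    rw [← A.map_id, ← B.map_id, Tr.map_eq _ (le_sup_left : A ≤ A ⊔ B),
      Tr.map_eq _ (le_sup_right : B ≤ A ⊔ B), MonoidHom.id_comp,
      Tr.pair_map (A ⊔ B).subtype_injective] at h3
    beta_reduce
    rwa [Tr.map_eq _ (le_sup_left : A ≤ A ⊔ B), Tr.map_eq _ (le_sup_right : B ≤ A ⊔ B),
      Tr.pair_map (Tr.inj h2 (h.odd_line hA hB hne'))]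
  refine ⟨h.pp, h.qp, h.p2, h.q2, h.pq, ?_, ?_,
    fun A hA B hB hne => (key A hA B hB hne).1, fun A hA B hB hne => (key A hA B hB hne).2.1,
    fun A hA B hB hne => (key A hA B hB hne).2.2.1, fun A hA B hB hne => (key A hA B hB hne).2.2.2.1,
    fun A hA B hB hne => (key A hA B hB hne).2.2.2.2, ?_⟩
  · rintro _ ⟨A, hA, rfl⟩
    beta_reduce
    rw [Tr.map_eq _ (le_refl A), card_map_of_injective (Tr.inj h2 (op A hA)), subgroupOf_self,
      card_top, h.card A hA]
  · rintro _ ⟨A, hA, rfl⟩ g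
    obtain ⟨g, rfl⟩ := QuotientGroup.mk'_surjective N g
    exact ⟨_, h.inv A hA g, map_cj _ _ _⟩
  · rintro _ ⟨A, hA, rfl⟩ _ ⟨B, hB, rfl⟩ hne _ ⟨A', hA', rfl⟩ _ ⟨B', hB', rfl⟩ hne' a b
    have n1 : A ≠ B := fun e => hne (e ▸ rfl)
    have n2 : A' ≠ B' := fun e => hne' (e ▸ rfl)
    beta_reduce at a b ⊢
    rw [← Subgroup.map_sup] at a b ⊢
    rw [← Subgroup.map_sup]
    exact map_mono (h.lin A hA B hB n1 A' hA' B' hB' n2
      (Tr.le_of_map_le h1 h2 (op _ hA') (h.odd_line hA hB n1) a)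
      (Tr.le_of_map_le h1 h2 (op _ hB') (h.odd_line hA hB n1) b))

theorem FS.odd_of
    (hs : ∀ (H : Type u) [Group H] [Finite H] (E : Set (Subgroup H)) (X : Subgroup H),
      FS p q k E → sp E X = X → Odd (Nat.card X) → Sol q E X)
    (hm : ∀ (H : Type u) [Group H] [Finite H] (E : Set (Subgroup H)), ¬ MC p q k E)
    (h : FS p q k D) (hg : sSup D = ⊤) : Odd (Nat.card G) := by
  revert D
  refine Solv.card_induction (P := fun G _ _ => ∀ {D : Set (Subgroup G)}, FS p q k D →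
    sSup D = ⊤ → Odd (Nat.card G)) ?_ G
  intro G _ _ ih D h hg
  by_contra hev
  refine hm G D ⟨h, hg, Nat.not_odd_iff_even.1 hev, fun X hX => ?_, fun u hu u2 => ?_⟩
  · refine hs G D _ h sp_sp (ih _ ?_ (h.sub _) (sSup_sub sp_sp))
    refine lt_of_le_of_ne (card_le_card_group _) fun e => hX (top_le_iff.1 ?_)
    exact (eq_top_of_card_eq _ e).ge.trans sp_le
  · by_contra u1
    have h1 : zpowers u ≤ center G := zpowers_le.2 hu
    have : (zpowers u).Normal := ⟨fun n hn g => by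
      rw [mem_center_iff.1 (h1 hn) g, mul_inv_cancel_right]; exact hn⟩
    have : Fact (Nat.Prime 2) := ⟨Nat.prime_two⟩
    have h2 : Nat.card (zpowers u) = 2 := by
      rw [Nat.card_zpowers]; exact orderOf_eq_prime (by rw [pow_two, u2]) u1
    have h3 : Odd (zpowers u).index := by
      refine ih (G ⧸ zpowers u) ?_ (h.quot _ h1 h2) ?_
      · rw [card_eq_card_quotient_mul_card_subgroup (zpowers u), h2]
        have : 0 < Nat.card (G ⧸ zpowers u) := Nat.card_pos
        omega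
      · rw [sSup_image, ← (gc_map_comap (QuotientGroup.mk' (zpowers u))).l_sSup, hg]
        exact map_top_of_surjective _ (QuotientGroup.mk'_surjective _)
    obtain ⟨K, hK⟩ := exists_right_complement'_of_coprime (N := zpowers u)
      (h2 ▸ Nat.coprime_two_left.2 h3)
    have h4 : K.index = 2 := hK.index_eq_card.trans h2
    have h5 : K = ⊤ := by
      rw [eq_top_iff, ← hg]
      refine sSup_le fun A hA a ha => ?_
      obtain ⟨c, hc⟩ := h.pp.odd_of_ne_two h.p2
      have a1 : a ^ Nat.card A = 1 := congrArg Subtype.val (pow_card_eq_one' (x := (⟨_, ha⟩ : A)))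
      rw [h.card A hA, hc, pow_succ, pow_mul, mul_eq_one_iff_eq_inv] at a1
      rw [← inv_mem_iff, ← a1]
      exact pow_mem (sq_mem_of_index_two h4 a) c
    rw [h5, index_top] at h4
    omega

end Cfsg.Lib.FSet
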