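import Cfsg.Agent.FSet.Line
import Cfsg.Agent.FSet.Abel
import Cfsg.Agent.FSet.Odd
import Cfsg.Agent.FSet.Spec
import Cfsg.Agent.FSet.Tr
import Cfsg.Agent.FSet.Cnt
import Cfsg.Agent.FSet.Sq
import Cfsg.Agent.FSet.Bdl
import Cfsg.Agent.FSet.Bd
import Cfsg.Agent.FSet.Ch
import Cfsg.Agent.FSet.Mid
import Cfsg.Agent.FSet.Blk
import Cfsg.Agent.FSet.Adj
import Cfsg.Agent.FSet.Zst
import Cfsg.Agent.FSet.Bad
import Cfsg.Agent.FSet.Cmp


set_option autoImplicit false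
set_option linter.unusedSectionVars false

open scoped commutatorElement

namespace Cfsg.Lib.FSet

open Cfsg Subgroup Cfsg.Lib.Trans

local notation "𝐂" A:max => Subgroup.centralizer (SetLike.coe A)
local notation "𝐍" A:max => Subgroup.normalizer (SetLike.coe A)

universe u

variable {G : Type u} [Group G] {p q k s : ℕ} {D : Set (Subgroup G)} {A B X Y X' : Subgroup G}
  {t g z : G} [Finite G]

theorem MC.ineq (h : MC p q k D) (ht : Iv D t) (hs : k = s ^ 2) (h2 : 2 ≤ s) :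
    (s - 2) * {X | X ∈ D ∧ Good t X}.ncard < s * {X | X ∈ D ∧ ¬ Good t X}.ncard := by
  obtain ⟨A, hA⟩ := h.pt
  have := Fact.mk Nat.prime_two
  set Sg : Set (Subgroup G) := {X | X ∈ D ∧ Good t X} with hSg
  set Sb : Set (Subgroup G) := {X | X ∈ D ∧ ¬ Good t X} with hSb
  have hW : Wt D ⊤ = {w : G | w ≠ 1 ∧ ∃ A ∈ D, w ∈ A} := by
    ext w; simp [Wt]
  have h1 := ch (W := Wt D ⊤) (Wg := {w : G | w ≠ 1 ∧ ∃ A ∈ Sg, w ∈ A}) (t := t)
    (b := (Ln D A).ncard * (((p : ℝ) - 1) * s + 1))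
    (by
      rintro w ⟨h1, B, hB, -, hw⟩ g
      refine ⟨fun e => h1 ?_, _, h.inv B hB g, le_top, conj_mem_cj.2 hw⟩
      calc w = g⁻¹ * (g * w * g⁻¹) * g := by group
        _ = 1 := by rw [e]; group)
    (orderOf_eq_prime (by rw [pow_two, ht.sq]) ht.ne)
    (fun χ hχ => h.bd hA hs χ hχ) (fun w hw => h.sec ht hw)
    (by
      rintro w ⟨h1, B, hB, hw⟩
      exact ⟨h1, B, hB.1, le_top, hw⟩)
    (by
      rintro w ⟨h1, B, hB, hw⟩
      exact hB.2 w hw h1)
  rw [hW, h.card_W (S := D) le_rfl, h.card_W (S := Sg) fun _ hX => hX.1] at h1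
  have h3 : D.ncard = Sg.ncard + Sb.ncard := by
    rw [← Set.ncard_union_eq (Set.disjoint_left.2 fun _ a b => b.2 a.2) (Set.toFinite _)
      (Set.toFinite _)]
    congr 1
    ext X
    simp only [hSg, hSb, Set.mem_union, Set.mem_setOf_eq]
    tauto
  have h4 := h.card_D hA
  have hp : 3 ≤ p := by
    have := h.pp.two_le
    have := h.p2
    omega
  obtain ⟨p', rfl⟩ : ∃ p', p = p' + 3 := ⟨p - 3, by omega⟩
  obtain ⟨s', rfl⟩ : ∃ s', s = s' + 2 := ⟨s - 2, by omega⟩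
  have h5 : k - 1 = s' * s' + 4 * s' + 3 := by rw [hs]; ring_nf; omega
  rw [h5, h3] at h4
  rw [h3] at h1
  rw [show p' + 3 - 1 = p' + 2 by omega] at h1
  rw [show s' + 2 - 2 = s' by omega]
  generalize Sg.ncard = a at *
  generalize Sb.ncard = b at *
  generalize (Ln D A).ncard = r at *
  have h6 : (a : ℝ) + b = 1 + r * (s' * s' + 4 * s' + 3) := by exact_mod_cast h4
  push_cast at h1
  have h7 : ((a : ℝ) - b) * (p' + 2) ≤ r * (s' + 3) * (p' + 2) := by
    have : (0 : ℝ) ≤ r * (p' + 1) := by positivity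
    nlinarith
  have h8 : (a : ℝ) - b ≤ r * (s' + 3) := le_of_mul_le_mul_right h7 (by positivity)
  have h9 : ((s' : ℝ) + 1) * (a - b) ≤ (s' + 1) * (r * (s' + 3)) :=
    mul_le_mul_of_nonneg_left h8 (by positivity)
  have h10 : (s' : ℝ) * a < (s' + 2) * b := by nlinarith
  exact_mod_cast h10

theorem MC.false (h : MC p q k D) : False := by
  obtain ⟨A, hA⟩ := h.pt
  obtain ⟨B, hB, hne⟩ := h.two hA
  obtain ⟨s, hs, h5, h8⟩ := h.sq hA hB hne.symm (h.line hA hB hne.symm)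
  obtain ⟨t, ht⟩ := h.exi
  have h1 := h.ineq ht hs (by omega)
  have h2 := h.cmp ht
  generalize {X | X ∈ D ∧ Good t X}.ncard = a at *
  generalize {X | X ∈ D ∧ ¬ Good t X}.ncard = b at *
  have hq : q = 3 ∨ 5 ≤ q := by
    have := h.qp.two_le
    have := h.q2
    have : q ≠ 4 := fun e => by have := h.qp; rw [e] at this; exact absurd this (by decide)
    omega
  obtain ⟨s', rfl⟩ : ∃ s', s = s' + 2 := ⟨s - 2, by omega⟩
  rw [show s' + 2 - 2 = s' by omega] at h1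
  rcases hq with rfl | hq
  · have := h8 rfl
    norm_num at h2
    nlinarith
  · have h3 : 8 * b ≤ 3 * a := le_trans (Nat.mul_le_mul_right b (by omega)) h2
    nlinarith

theorem FS.sol (h : FS p q k D) (h1 : sp D X = X) (h2 : Odd (Nat.card X)) : Sol q D X :=
  h.sol_of h1 h2 (h.odd1 h1 h2).1 (h.odd1 h1 h2).2

theorem FS.odd (h : FS p q k D) (hg : sSup D = ⊤) : Odd (Nat.card G) :=
  FS.odd_of (fun _ _ _ _ _ h h1 h2 => h.sol h1 h2) (fun _ _ _ _ h => h.false) h hg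

theorem FS.sol_top (h : FS p q k D) (hg : sSup D = ⊤) : Sol q D ⊤ :=
  h.sol (sp_top.trans hg) (by rw [card_top]; exact h.odd hg)

/-- the group has odd order, and the normaliser of a point is as small as possible. -/
theorem H0.main {F : Type*} [Group F] [Finite F] (h : H0 p D F) (hg : sSup D = ⊤) (hA : A ∈ D)
    (hB : B ∈ D) (hne : A ≠ B) :
    Odd (Nat.card G) ∧ 𝐍 A ≤ center G ⊔ A ∧ ∀ g, cj g A ≤ 𝐍 A → g ∈ 𝐍 A := by
  by_cases hF : _root_.commutator F ≤ 𝐂 (_root_.commutator F)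
  · obtain ⟨h1, h2⟩ := h.abel hg hA hB hne hF
    exact ⟨h1, h2.trans le_sup_right, fun g hg => mem_normalizer_of_cj_le (hg.trans h2)⟩
  · obtain ⟨q, k, hf⟩ := h.fs hA hB hne hF
    refine ⟨hf.odd hg, (hf.sol_top hg).norm_le hf hA, fun g hg => ?_⟩
    by_contra hn
    obtain ⟨a, ha, h1⟩ := hf.ex (hf.inv A hA g)
    exact hf.not_norm (hf.inv A hA g) hA (fun e => hn (cj_eq_self_iff.1 e)) ha h1 (hg ha)

end Cfsg.Lib.FSet
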